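import Cfsg.Agent.MaxSub.Transvection
import Cfsg.Agent.DicksonPSL2.Transvections

/-!
# A transvection and a regular unipotent element in dimension three

A subgroup of `GL₃` containing a regular unipotent `U` and a transvection in sufficiently general position with
respect to it contains every transvection with the same axis.
-/

set_option autoImplicit false

namespace CfsgLib.RegPair

open Matrix CfsgLib.MaxSub CfsgLib.DicksonPSL2
open scoped MatrixGroups

variable {F : Type*} [Field F] [Fintype F]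

/-- A rank two twist of the identity. -/
def blockHom (P : Matrix (Fin 3) (Fin 2) F) (R : Matrix (Fin 2) (Fin 3) F) (h : R * P = 1) :
    SL(2, F) →* Matrix (Fin 3) (Fin 3) F where
  toFun g := 1 + P * ((g : Matrix (Fin 2) (Fin 2) F) - 1) * R
  map_one' := by simp
  map_mul' g g' := by
    have e : ∀ X Y : Matrix (Fin 2) (Fin 2) F, P * X * R * (P * Y * R) = P * (X * Y) * R := fun X Y => by
      calc P * X * R * (P * Y * R) = P * X * (R * P) * Y * R := by simp only [Matrix.mul_assoc]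
        _ = P * (X * Y) * R := by rw [h, Matrix.mul_one, Matrix.mul_assoc P X Y]
    rw [Matrix.SpecialLinearGroup.coe_mul, add_mul, one_mul, mul_add, mul_one, e]
    simp only [Matrix.mul_sub, Matrix.sub_mul, Matrix.mul_one, Matrix.one_mul]
    abel

theorem fullAxis_of_config (h2 : (2 : F) ≠ 0) {M : Subgroup (GL (Fin 3) F)} {U : GL (Fin 3) F} (hU : U ∈ M)
    (hN : ((U : Matrix (Fin 3) (Fin 3) F) - 1) ^ 3 = 0) {c φ : Fin 3 → F} {lam A B : F}
    (h0 : φ ⬝ᵥ c = 0) (hA : φ ⬝ᵥ (((U : Matrix (Fin 3) (Fin 3) F) - 1) *ᵥ c) = A)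
    (hB : φ ⬝ᵥ ((((U : Matrix (Fin 3) (Fin 3) F) - 1) ^ 2) *ᵥ c) = B)
    (hA0 : A ≠ 0) (hB0 : B ≠ 0) (hC0 : B - A ≠ 0) (hlam : lam ≠ 0) (ht : tv (lam • c) φ ∈ M)
    (hgen : Subfield.closure ({lam ^ 2 * A * (B - A)} : Set F) = ⊤)
    (hexc : ¬ (Fintype.card F = 9 ∧ (lam ^ 2 * A * (B - A)) ^ 2 = -1)) : FullAxis M φ := by
  set N := (U : Matrix (Fin 3) (Fin 3) F) - 1 with hNdef
  have eU : (U : Matrix (Fin 3) (Fin 3) F) = 1 + N := by rw [hNdef]; abel
  have eUinv : ((U⁻¹ : GL (Fin 3) F) : Matrix (Fin 3) (Fin 3) F) = 1 - N + N ^ 2 := by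
    refine left_inv_eq_right_inv (Units.inv_mul U) ?_
    rw [eU, show (1 + N) * (1 - N + N ^ 2) = 1 + N ^ 3 by noncomm_ring, hN, add_zero]
  have hU2 : ((U * U : GL (Fin 3) F) : Matrix (Fin 3) (Fin 3) F) = 1 + 2 • N + N ^ 2 := by
    rw [Units.val_mul, eU]; noncomm_ring
  have hU2inv : (((U * U)⁻¹ : GL (Fin 3) F) : Matrix (Fin 3) (Fin 3) F) = 1 - 2 • N + 3 • N ^ 2 := by
    rw [_root_.mul_inv_rev, Units.val_mul, eUinv,
      show (1 - N + N ^ 2) * (1 - N + N ^ 2) = 1 - 2 • N + 3 • N ^ 2 - N ^ 3 * (2 - N) by noncomm_ring, hN,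
      zero_mul, sub_zero]
  set c' := (U : Matrix (Fin 3) (Fin 3) F) *ᵥ c with hc'
  set φ' := φ ᵥ* ((U⁻¹ : GL (Fin 3) F) : Matrix (Fin 3) (Fin 3) F) with hφ'
  set c'' := ((U * U : GL (Fin 3) F) : Matrix (Fin 3) (Fin 3) F) *ᵥ c with hc''
  set φ'' := φ ᵥ* (((U * U)⁻¹ : GL (Fin 3) F) : Matrix (Fin 3) (Fin 3) F) with hφ''
  have d1 : φ ⬝ᵥ c' = A := by rw [hc', eU, add_mulVec, one_mulVec, dotProduct_add, h0, hA, zero_add]
  have d2 : φ' ⬝ᵥ c = B - A := by
    rw [hφ', ← dotProduct_mulVec, eUinv, add_mulVec, sub_mulVec, one_mulVec, dotProduct_add, dotProduct_sub, h0, hA, hB]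
    ring
  have d3 : φ' ⬝ᵥ c' = 0 := by rw [hφ', hc', dot_conj, h0]
  have d4 : φ ⬝ᵥ c'' = 2 * A + B := by
    rw [hc'', hU2, add_mulVec, add_mulVec, one_mulVec, smul_mulVec, dotProduct_add, dotProduct_add, dotProduct_smul,
      h0, hA, hB, nsmul_eq_mul]
    push_cast; ring
  have d5 : φ'' ⬝ᵥ c = -2 * A + 3 * B := by
    rw [hφ'', ← dotProduct_mulVec, hU2inv, add_mulVec, sub_mulVec, one_mulVec, smul_mulVec, smul_mulVec,
      dotProduct_add, dotProduct_sub, dotProduct_smul, dotProduct_smul, h0, hA, hB, nsmul_eq_mul, nsmul_eq_mul]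
    push_cast; ring
  have ec'' : c'' = (U : Matrix (Fin 3) (Fin 3) F) *ᵥ c' := by rw [hc'', hc', mulVec_mulVec, Units.val_mul]
  have eφ'' : φ'' = φ' ᵥ* ((U⁻¹ : GL (Fin 3) F) : Matrix (Fin 3) (Fin 3) F) := by
    rw [hφ'', hφ', vecMul_vecMul, _root_.mul_inv_rev, Units.val_mul]
  have d6 : φ'' ⬝ᵥ c' = B - A := by rw [eφ'', hc', dot_conj, d2]
  have d7 : φ' ⬝ᵥ c'' = A := by rw [hφ', ec'', dot_conj, d1]
  have d8 : φ'' ⬝ᵥ c'' = 0 := by rw [hφ'', hc'', dot_conj, h0]
  -- the plane generated by the two transvections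
  set L := lam ^ 2 * A * (B - A) with hL
  have hL0 : L ≠ 0 := mul_ne_zero (mul_ne_zero (pow_ne_zero _ hlam) hA0) hC0
  set μ := (lam * (B - A))⁻¹ with hμ
  have hμ0 : μ ≠ 0 := inv_ne_zero (mul_ne_zero hlam hC0)
  set P : Matrix (Fin 3) (Fin 2) F := Matrix.of fun i j => ![μ * c i, c' i] j with hP
  set R : Matrix (Fin 2) (Fin 3) F := Matrix.of ![lam • φ', A⁻¹ • φ] with hR
  have hRP : R * P = 1 := by
    ext i j
    have s1 : ∀ (a : F) (f v : Fin 3 → F), ∑ k, a * f k * v k = a * (f ⬝ᵥ v) := fun a f v => by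
      simp [dotProduct, Finset.mul_sum, mul_assoc]
    fin_cases i <;> fin_cases j <;> simp [hP, hR, Matrix.mul_apply]
    · rw [Finset.sum_congr rfl (g := fun k => (lam * μ) * φ' k * c k) (fun k _ => by ring), s1, d2, hμ]
      field_simp
    · rw [s1, d3, mul_zero]
    · rw [Finset.sum_congr rfl (g := fun k => (A⁻¹ * μ) * φ k * c k) (fun k _ => by ring), s1, h0, mul_zero]
    · rw [s1, d1, inv_mul_cancel₀ hA0]
  let ψ : SL(2, F) →* GL (Fin 3) F := (blockHom P R hRP).toHomUnits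
  have hup : ∀ r, ψ (upSL r) = tv ((r * μ * A⁻¹) • c) φ := by
    intro r
    apply Units.ext
    rw [tv_coe (by rw [dotProduct_smul, h0, smul_zero])]
    show 1 + P * (((upSL r : SL(2, F)) : Matrix (Fin 2) (Fin 2) F) - 1) * R = _
    congr 1
    ext i j
    simp [hP, hR, coe_upSL, Matrix.mul_apply, vecMulVec_apply, Fin.sum_univ_two, Matrix.one_fin_two]
    ring
  have hlo : ψ loOne = tv (lam • c') φ' := by
    apply Units.ext
    rw [tv_coe (by rw [dotProduct_smul, d3, smul_zero])]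
    show 1 + P * (((loOne : SL(2, F)) : Matrix (Fin 2) (Fin 2) F) - 1) * R = _
    congr 1
    ext i j
    simp [hP, hR, coe_loOne, Matrix.mul_apply, vecMulVec_apply, Fin.sum_univ_two, Matrix.one_fin_two]
    ring
  have ht' : tv (lam • c') φ' ∈ M := by
    have := tv_mem_conj hU ht
    rwa [mulVec_smul] at this
  have hall : ∀ g, ψ g ∈ M := by
    obtain ⟨p, hp⟩ := CharP.exists F
    have : Fact p.Prime := ⟨CharP.char_is_prime F p⟩
    rcases transvections_generate p h2 hL0 hgen with ⟨htop, -⟩ | ⟨h9, hsq, -⟩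
    · have hle : Subgroup.closure ({loOne, upSL L} : Set SL(2, F)) ≤ M.comap ψ := by
        rw [Subgroup.closure_le]
        rintro g (rfl | rfl)
        · show ψ loOne ∈ M; rw [hlo]; exact ht'
        · show ψ (upSL L) ∈ M
          rw [hup, show L * μ * A⁻¹ = lam by rw [hL, hμ]; field_simp]
          exact ht
      exact fun g => hle (htop ▸ Subgroup.mem_top g)
    · exact absurd ⟨h9, hsq⟩ hexc
  have hr1 : RootIn M c φ := ⟨h0, fun d => by
    have := hall (upSL (d * A * μ⁻¹))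
    rw [hup, show d * A * μ⁻¹ * μ * A⁻¹ = d by field_simp] at this
    exact this⟩
  have hr2 : RootIn M c' φ' := hr1.conj hU
  -- one more centre
  set ρ := -(2 * A + B) / A ^ 2 with hρ
  have hv : φ' ⬝ᵥ (ρ • c') = 0 := by rw [dotProduct_smul, d3, smul_zero]
  set w := c'' + (φ' ⬝ᵥ c'') • ρ • c' with hw
  set b := φ'' + (φ'' ⬝ᵥ -(ρ • c')) • φ' with hb
  have ht'' : tv (lam • w) b ∈ M := by
    have h1 := tv_mem_conj (M.mul_mem hU hU) ht
    rw [mulVec_smul, ← hc'', ← hφ''] at h1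
    have h2' := tv_mem_conj (hr2.2 ρ) h1
    rw [mulVec_smul, tv_mulVec hv, tv_inv, vecMul_tv (by rw [dotProduct_neg, hv, neg_zero])] at h2'
    exact h2'
  have w1 : φ ⬝ᵥ w = 0 := by
    rw [hw, dotProduct_add, dotProduct_smul, dotProduct_smul, d4, d7, d1, hρ]
    simp only [smul_eq_mul]; field_simp; ring
  have w2 : φ' ⬝ᵥ w = A := by rw [hw, dotProduct_add, dotProduct_smul, hv, d7, smul_zero, add_zero]
  have w3 : b ⬝ᵥ w = 0 := by
    rw [hb, add_dotProduct, smul_dotProduct, w2, hw, dotProduct_add, dotProduct_smul, dotProduct_smul, d7, d8,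
      dotProduct_neg, dotProduct_smul, d6]
    simp only [smul_eq_mul]; ring
  have bc : b ⬝ᵥ c = B ^ 3 / A ^ 2 := by
    rw [hb, add_dotProduct, smul_dotProduct, d5, d2, dotProduct_neg, dotProduct_smul, d6, hρ]
    simp only [smul_eq_mul]; field_simp; ring
  have bc0 : b ⬝ᵥ c ≠ 0 := by rw [bc]; exact div_ne_zero (pow_ne_zero _ hB0) (pow_ne_zero _ hA0)
  have hr3 : RootIn M w φ := by
    have := hr1.rule_axis (w := lam • w) (b := b) (by rw [dotProduct_smul, w3, smul_zero]) ht''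
      (by rw [dotProduct_smul, w1, smul_zero]) bc0
    have := this.smul_left lam⁻¹
    rwa [smul_smul, inv_mul_cancel₀ hlam, one_smul] at this
  -- `c`, `w` and `c'` form a basis
  refine fullAxis_of_centres fun v hφv => ?_
  set y := (b ⬝ᵥ v) / (b ⬝ᵥ c) with hy
  set z := (φ' ⬝ᵥ v - y * (B - A)) / A with hz
  set Q : Matrix (Fin 3) (Fin 3) F := Matrix.of ![φ, b, φ'] with hQ
  set S : Matrix (Fin 3) (Fin 3) F := Matrix.of fun i j => ![c' i, c i, w i] j with hS
  have hQS : Q * S = !![A, 0, 0; b ⬝ᵥ c', b ⬝ᵥ c, 0; 0, B - A, A] := by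
    have e : ∀ i j, (Q * S) i j = (![φ, b, φ'] i) ⬝ᵥ (![c', c, w] j) := fun i j => by
      rw [Matrix.mul_apply, dotProduct]
      refine Finset.sum_congr rfl fun k _ => ?_
      rw [hQ, hS]
      fin_cases j <;> simp
    ext i j
    rw [e]
    fin_cases i <;> fin_cases j <;> simp [h0, d1, d2, d3, w1, w2, w3]
  have hdet : Q.det ≠ 0 := by
    intro h
    have := congrArg Matrix.det hQS
    rw [det_mul, h, zero_mul, det_fin_three] at this
    simp [hA0, bc0] at this
  have e : v = y • c + z • w := by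
    have hinj : Function.Injective Q.mulVec :=
      Matrix.mulVec_injective_iff_isUnit.2 ((Matrix.isUnit_iff_isUnit_det _).2 (isUnit_iff_ne_zero.2 hdet))
    apply hinj
    funext i
    fin_cases i <;> simp [hQ, Matrix.mulVec, dotProduct_add, dotProduct_smul, hφv, h0, w1, w2, w3, d2]
    · rw [hy, div_mul_cancel₀ _ bc0]
    · rw [hz]; field_simp; ring
  rw [e]
  exact Submodule.add_mem _ (Submodule.smul_mem _ _ hr1) (Submodule.smul_mem _ _ hr3)

end CfsgLib.RegPair
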