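import Cfsg.Agent.RegPair.Config
import Cfsg.Agent.SL2Pres.Exist

/-!
# Two conjugate regular unipotent generators of `SL₃(q)`, `q` odd
-/

set_option autoImplicit false

namespace CfsgLib.RegPair

open Matrix CfsgLib.MaxSub Polynomial Cfsg.Geo
open scoped MatrixGroups

variable {F : Type*} [Field F]

/-- The upper regular unipotent element. -/
def uJ : SL(3, F) := ⟨!![1, 1, 0; 0, 1, 1; 0, 0, 1], by simp [Matrix.det_fin_three]⟩

/-- A lower regular unipotent element. -/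
def vL (x y z : F) : SL(3, F) := ⟨!![1, 0, 0; x, 1, 0; z, y, 1], by simp [Matrix.det_fin_three]⟩

theorem uJ_sub_sq : ((uJ : SL(3, F)) : Matrix (Fin 3) (Fin 3) F) - 1 = !![0, 1, 0; 0, 0, 1; 0, 0, 0] := by
  ext i j; fin_cases i <;> fin_cases j <;> simp [uJ]

theorem uJ_regular : IsNilpotent (((uJ : SL(3, F)) : Matrix (Fin 3) (Fin 3) F) - 1) ∧
    (((uJ : SL(3, F)) : Matrix (Fin 3) (Fin 3) F) - 1) ^ (3 - 1) ≠ 0 := by
  rw [uJ_sub_sq]
  refine ⟨⟨3, ?_⟩, fun h => ?_⟩
  · ext i j; fin_cases i <;> fin_cases j <;> simp [pow_succ, Matrix.mul_apply, Fin.sum_univ_three]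
  · have := congrFun (congrFun h 0) 2
    simp [pow_succ, Matrix.mul_apply, Fin.sum_univ_three] at this

theorem exists_conj (x y z : F) (hx : x ≠ 0) (hxy : x ^ 2 = y ^ 2) : ∃ g : SL(3, F), vL x y z = g * uJ * g⁻¹ := by
  have hy : y ≠ 0 := by rintro rfl; simp at hxy; exact hx hxy
  refine ⟨⟨!![0, 0, -y⁻¹; 0, -x * y⁻¹, 0; -x, -z * y⁻¹, 0], ?_⟩, ?_⟩
  · simp [Matrix.det_fin_three]
    field_simp
    linear_combination hxy
  · refine eq_mul_inv_of_mul_eq ?_
    apply Subtype.ext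
    show !![1, 0, 0; x, 1, 0; z, y, 1] * !![0, 0, -y⁻¹; 0, -x * y⁻¹, 0; -x, -z * y⁻¹, 0] =
      !![0, 0, -y⁻¹; 0, -x * y⁻¹, 0; -x, -z * y⁻¹, 0] * !![1, 1, 0; 0, 1, 1; 0, 0, 1]
    ext i j
    fin_cases i <;> fin_cases j <;> simp [Matrix.mul_apply, Fin.sum_univ_three] <;> field_simp <;> ring

variable [Fintype F]

/-- The power of a product with a double eigenvalue is a transvection. -/
theorem pow_eq (w : Matrix (Fin 3) (Fin 3) F) {a b : F} (ha : a ≠ 0) (hb : b ≠ 0) (hab : a ≠ b)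
    (h : (w - a • 1) * (w - b • 1) * (w - b • 1) = 0) :
    w ^ (Fintype.card F - 1) = 1 + (-1 / (b * (b - a))) • ((w - a • 1) * (w - b • 1)) := by
  have hq : 2 ≤ Fintype.card F := Fintype.one_lt_card
  set l := -1 / (b * (b - a))
  set f : F[X] := X ^ (Fintype.card F - 1) - 1 - C l * ((X - C a) * (X - C b)) with hf
  have ea : f.IsRoot a := by
    simp [IsRoot, hf, FiniteField.pow_card_sub_one_eq_one a ha]
  have eb : f.IsRoot b ∧ (derivative f).IsRoot b := by
    refine ⟨by simp [IsRoot, hf, FiniteField.pow_card_sub_one_eq_one b hb], ?_⟩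
    have e : b ^ (Fintype.card F - 1 - 1) = b⁻¹ := by
      refine eq_inv_of_mul_eq_one_left ?_
      rw [← pow_succ, show Fintype.card F - 1 - 1 + 1 = Fintype.card F - 1 by omega,
        FiniteField.pow_card_sub_one_eq_one b hb]
    have e' : (((Fintype.card F - 1 : ℕ)) : F) = -1 := by
      rw [Nat.cast_sub (by omega : 1 ≤ Fintype.card F), Nat.cast_one, Nat.cast_card_eq_zero, zero_sub]
    simp [IsRoot, hf, derivative_X_pow, e, e', l]
    field_simp [sub_ne_zero.2 hab.symm]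
    ring
  obtain ⟨g, hg⟩ : (X - C a) * (X - C b) ^ 2 ∣ f := by
    by_cases hf0 : f = 0
    · rw [hf0]; exact dvd_zero _
    refine IsCoprime.mul_dvd ((isCoprime_X_sub_C_of_isUnit_sub (sub_ne_zero.2 hab).isUnit).pow_right) (dvd_iff_isRoot.2 ea) ?_
    exact (pow_dvd_pow _ ((one_lt_rootMultiplicity_iff_isRoot hf0).2 eb)).trans (pow_rootMultiplicity_dvd f b)
  have := congrArg (aeval w) hg
  simp only [hf, map_sub, map_mul, map_pow, aeval_X, aeval_C, map_one, Algebra.algebraMap_eq_smul_one, pow_two] at this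
  rw [← mul_assoc (w - a • 1), h, zero_mul, sub_sub, sub_eq_zero, smul_mul_assoc, one_mul] at this
  exact this

/-- Two unipotent elements fixing no common proper subspace. -/
theorem irreducible_pair (M : Subgroup (GL (Fin 3) F)) (x y z : F) (hx : x ≠ 0) (hy : y ≠ 0)
    (hu : Matrix.SpecialLinearGroup.toGL (uJ : SL(3, F)) ∈ M)
    (hv : Matrix.SpecialLinearGroup.toGL (vL x y z) ∈ M) : MaxSub.Irreducible M := by
  intro W hW
  by_cases h0 : W = ⊥
  · exact Or.inl h0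
  right
  have hN : ∀ g : SL(3, F), Matrix.SpecialLinearGroup.toGL g ∈ M → ∀ w ∈ W,
      ((g : Matrix (Fin 3) (Fin 3) F) - 1) *ᵥ w ∈ W := fun g hg w hw => by
    rw [sub_mulVec, one_mulVec]; exact W.sub_mem (hW _ hg w hw) hw
  obtain ⟨w, hw, hw0⟩ := W.exists_mem_ne_zero_of_ne_bot h0
  have n1 : ∀ w ∈ W, ![w 1, w 2, 0] ∈ W := fun w hw => by
    convert hN _ hu w hw using 1
    rw [uJ_sub_sq]; ext i; fin_cases i <;> simp [Matrix.mulVec, dotProduct, Fin.sum_univ_three]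
  have n2 : ∀ w ∈ W, ![0, x * w 0, z * w 0 + y * w 1] ∈ W := fun w hw => by
    convert hN _ hv w hw using 1
    ext i; fin_cases i <;> simp [vL, Matrix.mulVec, dotProduct, Fin.sum_univ_three, Matrix.vecMul]
  have he0 : ![(1 : F), 0, 0] ∈ W := by
    have key : ∀ v ∈ W, v 1 = 0 → v 2 = 0 → v 0 ≠ 0 → ![(1 : F), 0, 0] ∈ W := fun v hv h1 h2 h0 => by
      convert W.smul_mem (v 0)⁻¹ hv using 1
      ext i; fin_cases i <;> simp [h1, h2, h0]
    by_cases h2 : w 2 = 0
    · by_cases h1 : w 1 = 0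
      · refine key w hw h1 h2 fun h => hw0 ?_
        ext i; fin_cases i <;> assumption
      · exact key _ (n1 w hw) (by simp [h2]) (by simp) (by simpa using h1)
    · exact key _ (n1 _ (n1 w hw)) (by simp) (by simp) (by simpa using h2)
  have he2 : ![(0 : F), 0, 1] ∈ W := by
    convert W.smul_mem (x * y)⁻¹ (n2 _ (n2 _ he0)) using 1
    ext i; fin_cases i <;> simp; field_simp
  have he1 : ![(0 : F), 1, 0] ∈ W := by
    convert n1 _ he2 using 1
    simp
  rw [eq_top_iff]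
  intro v _
  have : v = v 0 • ![(1 : F), 0, 0] + v 1 • ![(0 : F), 1, 0] + v 2 • ![(0 : F), 0, 1] := by
    ext i; fin_cases i <;> simp
  rw [this]
  exact W.add_mem (W.add_mem (W.smul_mem _ he0) (W.smul_mem _ he1)) (W.smul_mem _ he2)

theorem closure_eq_top (h2 : (2 : F) ≠ 0) (x y b : F) (hx : x ≠ 0) (hy : y ≠ 0) (hb : b ≠ 0)
    (hb3 : b ^ 3 ≠ 1) (hs : b ^ 2 * (x + y) = (b - 1) ^ 2 * (2 * b + 1)) {A B : F}
    (hA : A = -(b - 1) ^ 3 + b * x * y) (hB : B = b * x * y - (b - 1) ^ 4 * (b + 1) / b ^ 2)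
    (hA0 : A ≠ 0) (hB0 : B ≠ 0) {Λ : F} (hΛ : Λ = (-b / (b ^ 3 - 1)) ^ 2 * A * (B - A))
    (hgen : Subfield.closure ({Λ} : Set F) = ⊤) (hexc : ¬ (Fintype.card F = 9 ∧ Λ ^ 2 = -1)) :
    Subgroup.closure ({uJ, vL x y (x + y + 3 + x * y - b ^ 2 - 2 / b)} : Set (SL(3, F))) = ⊤ := by
  classical
  set z := x + y + 3 + x * y - b ^ 2 - 2 / b with hz
  set H := Subgroup.closure ({uJ, vL x y z} : Set (SL(3, F)))
  set M := H.map Matrix.SpecialLinearGroup.toGL
  have hu : uJ ∈ H := Subgroup.subset_closure (by simp)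
  have hv : vL x y z ∈ H := Subgroup.subset_closure (by simp)
  set W : Matrix (Fin 3) (Fin 3) F := !![1 + x, 1, 0; x + z, 1 + y, 1; z, y, 1] with hW
  have eW : ((uJ * vL x y z : SL(3, F)) : Matrix (Fin 3) (Fin 3) F) = W := by
    rw [Matrix.SpecialLinearGroup.coe_mul, hW]
    simp only [uJ, vL]
    ext i j
    fin_cases i <;> fin_cases j <;> simp [Matrix.mul_apply, Fin.sum_univ_three]
  set c : Fin 3 → F := ![1, b - 1 - x, (b - 1) ^ 2 / b - x] with hc
  set φ : Fin 3 → F := ![(b - 1) ^ 2 - y * b, b - 1, 1] with hφ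
  have hy' : y = (b - 1) ^ 2 * (2 * b + 1) / b ^ 2 - x := by
    field_simp; linear_combination hs
  have hT : (W - (b ^ 2)⁻¹ • 1) * (W - b • 1) = vecMulVec c φ := by
    rw [hW, hc, hφ, hz, hy']
    ext i j
    fin_cases i <;> fin_cases j <;>
      simp [Matrix.mul_apply, Fin.sum_univ_three, vecMulVec_apply] <;> field_simp <;> ring
  have hφW : φ ᵥ* (W - b • 1) = 0 := by
    rw [hW, hφ, hz, hy']
    ext i
    fin_cases i <;> simp [Matrix.vecMul, dotProduct, Fin.sum_univ_three] <;> field_simp <;> ring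
  have hab : (b ^ 2)⁻¹ ≠ b := by
    intro e
    apply hb3
    calc b ^ 3 = b ^ 2 * b := by ring
      _ = b ^ 2 * (b ^ 2)⁻¹ := by rw [e]
      _ = 1 := mul_inv_cancel₀ (pow_ne_zero _ hb)
  have hpow := pow_eq W (inv_ne_zero (pow_ne_zero 2 hb)) hb hab
    (by rw [hT, vecMulVec_mul, hφW, vecMulVec_zero])
  have h0 : φ ⬝ᵥ c = 0 := by
    rw [hφ, hc, hy']
    simp [dotProduct, Fin.sum_univ_three]
    field_simp; ring
  set lam := -b / (b ^ 3 - 1) with hlam
  have hb31 : b ^ 3 - 1 ≠ 0 := sub_ne_zero.2 hb3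
  have hl : -1 / (b * (b - (b ^ 2)⁻¹)) = lam := by
    rw [hlam]; field_simp
  have ht : tv (lam • c) φ ∈ M := by
    refine ⟨(uJ * vL x y z) ^ (Fintype.card F - 1), pow_mem (mul_mem hu hv) _, Units.ext ?_⟩
    rw [tv_coe (by rw [dotProduct_smul, h0, smul_zero])]
    show (((uJ * vL x y z) ^ (Fintype.card F - 1) : SL(3, F)) : Matrix (Fin 3) (Fin 3) F) = _
    rw [Matrix.SpecialLinearGroup.coe_pow, eW, hpow, hT, hl, smul_vecMulVec]
  have hNu : ((Matrix.SpecialLinearGroup.toGL (uJ : SL(3, F))) : Matrix (Fin 3) (Fin 3) F) - 1 =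
      !![0, 1, 0; 0, 0, 1; 0, 0, 0] := uJ_sub_sq
  have hfull : FullAxis M φ := by
    refine fullAxis_of_config h2 (U := Matrix.SpecialLinearGroup.toGL uJ) (Subgroup.mem_map_of_mem _ hu) ?_ (A := A) (B := B) h0 ?_ ?_ hA0 hB0 ?_ ?_ ht
      (by rw [← hΛ]; exact hgen) (by rw [← hΛ]; exact hexc)
    · rw [hNu]
      ext i j; fin_cases i <;> fin_cases j <;> simp [pow_succ, Matrix.mul_apply, Fin.sum_univ_three]
    · rw [hNu, hA, hφ, hc, hy']
      simp [dotProduct, Matrix.mulVec, Fin.sum_univ_three]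
      field_simp; ring
    · rw [hNu, hB, hφ, hc, hy']
      simp [pow_two, dotProduct, Matrix.mulVec, Matrix.mul_apply, Fin.sum_univ_three]
      field_simp; ring
    · have hb1 : b - 1 ≠ 0 := fun e => hb3 (by rw [sub_eq_zero.1 e, one_pow])
      rw [show B - A = (b - 1) ^ 3 / b ^ 2 by rw [hA, hB]; field_simp; ring]
      exact div_ne_zero (pow_ne_zero _ hb1) (pow_ne_zero _ hb)
    · exact div_ne_zero (neg_ne_zero.2 hb) hb31
  have hφ0 : φ ≠ 0 := fun e => by simpa [hφ] using congrFun e 2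
  have hSL := specialLinear_le_of_fullAxis (irreducible_pair M x y z hx hy (Subgroup.mem_map_of_mem _ hu) (Subgroup.mem_map_of_mem _ hv)) hφ0 hfull
  rw [eq_top_iff]
  intro g _
  have hg : Matrix.SpecialLinearGroup.toGL g ∈ specialLinear (Fin 3) F := by
    rw [specialLinear, MonoidHom.mem_ker]
    exact Units.ext g.2
  obtain ⟨g', hg', e⟩ := hSL hg
  have : g' = g := Subtype.ext (congrArg Units.val e)
  rwa [← this]

/-- A subfield with more than half of the elements is everything. -/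
theorem subfield_top_of_card (K : Subfield F) (h : Fintype.card F < 2 * Nat.card K) : K = ⊤ := by
  have hd := AddSubgroup.card_mul_index K.toSubring.toAddSubgroup
  rw [Nat.card_eq_fintype_card (α := F)] at hd
  have hK : Nat.card K.toSubring.toAddSubgroup = Nat.card K := rfl
  rw [hK] at hd
  have hi : K.toSubring.toAddSubgroup.index = 1 := by
    rcases Nat.lt_or_ge K.toSubring.toAddSubgroup.index 2 with h' | h'
    · have : K.toSubring.toAddSubgroup.index ≠ 0 := AddSubgroup.index_ne_zero_of_finite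
      omega
    · nlinarith
  rw [eq_top_iff]
  intro v _
  have := AddSubgroup.index_eq_one.1 hi
  exact (this ▸ AddSubgroup.mem_top v : v ∈ K.toSubring.toAddSubgroup)

theorem exists_params_three (h2 : (2 : F) ≠ 0) (h3 : (3 : F) = 0) (ω : Fˣ) (hω : orderOf ω = Fintype.card F - 1)
    (hgen : ∀ t : F, t ≠ 0 → ∃ n : ℕ, t = (ω : F) ^ n) :
    ∃ x y z : F, x ≠ 0 ∧ x ^ 2 = y ^ 2 ∧ Subgroup.closure ({uJ, vL x y z} : Set (SL(3, F))) = ⊤ := by
  have hq : 2 ≤ Fintype.card F := Fintype.one_lt_card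
  obtain ⟨p, hp⟩ := CharP.exists F
  have : Fact p.Prime := ⟨CharP.char_is_prime F p⟩
  obtain ⟨f, -, hf⟩ := FiniteField.card F p
  have hp3 : p = 3 := (Nat.prime_dvd_prime_iff_eq (Fact.out : p.Prime) Nat.prime_three).1
    ((CharP.cast_eq_zero_iff F p 3).1 (by exact_mod_cast h3))
  subst hp3
  have hb : (ω : F) ≠ 0 := ω.ne_zero
  have hb1 : (ω : F) - 1 ≠ 0 := by
    intro e
    rw [sub_eq_zero, Units.val_eq_one] at e
    rw [e, orderOf_one] at hω
    have h : Fintype.card F = 2 := by omega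
    apply h2
    have := Nat.cast_card_eq_zero F
    rw [h] at this
    exact_mod_cast this
  have hb3 : (ω : F) ^ 3 - 1 = ((ω : F) - 1) ^ 3 := by linear_combination ((ω : F) ^ 2 - (ω : F)) * h3
  generalize hbdef : (ω : F) = b at hb hb1 hb3
  obtain ⟨x, hx⟩ : ∃ x, x = (b - 1) ^ 3 / b ^ 2 := ⟨_, rfl⟩
  have hx0 : x ≠ 0 := hx ▸ div_ne_zero (pow_ne_zero _ hb1) (pow_ne_zero _ hb)
  have hxx : b * x * x = (b - 1) ^ 6 / b ^ 3 := by rw [hx]; field_simp
  have hb3' : b ^ 3 ≠ 1 := fun e => pow_ne_zero 3 hb1 (by rw [← hb3, e, sub_self])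
  refine ⟨x, x, _, hx0, rfl, closure_eq_top h2 x x b hx0 hx0 hb hb3' ?_
    (A := -(b - 1) ^ 3 / b ^ 3) (B := (b - 1) ^ 4 / b ^ 3) ?_ ?_ ?_ ?_ (Λ := -(b ^ 3)⁻¹) ?_ ?_ ?_⟩
  · rw [hx]; field_simp; linear_combination (-1 : F) * h3
  · rw [hxx]; field_simp; linear_combination ((b - 1) ^ 0) * hb3
  · rw [hxx]; field_simp; linear_combination b * h3
  · exact div_ne_zero (neg_ne_zero.2 (pow_ne_zero _ hb1)) (pow_ne_zero _ hb)
  · exact div_ne_zero (pow_ne_zero _ hb1) (pow_ne_zero _ hb)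
  · rw [hb3]; field_simp; ring
  · rw [eq_top_iff]
    intro t _
    have h1 : b ^ 3 ∈ Subfield.closure ({-(b ^ 3)⁻¹} : Set F) := by
      have h := inv_mem (neg_mem (Subfield.subset_closure (Set.mem_singleton (-(b ^ 3)⁻¹)) :
        -(b ^ 3)⁻¹ ∈ Subfield.closure ({-(b ^ 3)⁻¹} : Set F)))
      rwa [neg_neg, inv_inv] at h
    have e : b = (b ^ 3) ^ (3 ^ ((f : ℕ) - 1)) := by
      rw [← pow_mul, ← pow_succ', show (f : ℕ) - 1 + 1 = f by have := f.pos; omega, ← hf, FiniteField.pow_card]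
    by_cases ht : t = 0
    · rw [ht]; exact zero_mem _
    · obtain ⟨k, hk⟩ := hgen t ht
      rw [hk, hbdef]
      refine pow_mem ?_ k
      have hm := pow_mem h1 (3 ^ ((f : ℕ) - 1))
      rwa [← e] at hm
  · rintro ⟨h9, e⟩
    have h6 : b ^ 6 = -1 := by
      have : ((b ^ 3)⁻¹) ^ 2 = -1 := by rw [← e]; ring
      rw [inv_pow, ← pow_mul, inv_eq_iff_eq_inv, inv_neg, inv_one] at this
      exact this
    have h8 : b ^ 8 = 1 := by
      rw [← hbdef, ← Units.val_pow_eq_pow_val, show 8 = orderOf ω by omega, pow_orderOf_eq_one, Units.val_one]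
    have h4 : ω ^ 4 = 1 := by
      apply Units.ext
      rw [Units.val_pow_eq_pow_val, Units.val_one, hbdef]
      calc b ^ 4 = b ^ 4 * b ^ 8 := by rw [h8, mul_one]
        _ = (b ^ 6) ^ 2 := by ring
        _ = 1 := by rw [h6]; ring
    have := orderOf_le_of_pow_eq_one (by norm_num : 0 < 4) h4
    omega

theorem closure_of_params (h2 : (2 : F) ≠ 0) (h3 : (3 : F) ≠ 0) (y : F) (hy0 : y ≠ 0) (hy1 : 4 * y ^ 2 + 27 ≠ 0)
    (hy2 : 4 * y ^ 2 - 81 ≠ 0) (hyg : Subfield.closure ({y ^ 2} : Set F) = ⊤) :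
    ∃ x y z : F, x ≠ 0 ∧ x ^ 2 = y ^ 2 ∧ Subgroup.closure ({uJ, vL x y z} : Set (SL(3, F))) = ⊤ := by
  have h4 : (4 : F) ≠ 0 := by rw [show (4 : F) = 2 ^ 2 by norm_num]; exact pow_ne_zero _ h2
  have h8 : (8 : F) ≠ 0 := by rw [show (8 : F) = 2 ^ 3 by norm_num]; exact pow_ne_zero _ h2
  have h9 : (9 : F) ≠ 0 := by rw [show (9 : F) = 3 ^ 2 by norm_num]; exact pow_ne_zero _ h3
  have hb : (-1 / 2 : F) ^ 3 = -1 / 8 := by rw [div_pow]; norm_num
  have hlam : -(-1 / 2 : F) / ((-1 / 2) ^ 3 - 1) = -4 / 9 := by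
    rw [hb, show (-1 / 8 : F) - 1 = -9 / 8 by field_simp; ring]
    field_simp; ring
  refine ⟨-y, y, _, neg_ne_zero.2 hy0, by ring, closure_eq_top h2 (-y) y (-1 / 2) (neg_ne_zero.2 hy0) hy0 ?_ ?_ ?_
    (A := (4 * y ^ 2 + 27) / 8) (B := (4 * y ^ 2 - 81) / 8) ?_ ?_ ?_ ?_ (Λ := -(4 * y ^ 2 + 27) / 3) ?_ ?_ ?_⟩
  · exact div_ne_zero (neg_ne_zero.2 one_ne_zero) h2
  · intro e
    rw [hb, div_eq_iff h8] at e
    exact h9 (by linear_combination -e)
  · field_simp; ring
  · field_simp; ring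
  · field_simp; ring
  · exact div_ne_zero hy1 h8
  · exact div_ne_zero hy2 h8
  · rw [hlam]; field_simp; ring
  · rw [eq_top_iff, ← hyg, Subfield.closure_le, Set.singleton_subset_iff, SetLike.mem_coe]
    have hm : ((-3 : F) * (-(4 * y ^ 2 + 27) / 3) - 27) / 4 ∈ Subfield.closure ({-(4 * y ^ 2 + 27) / 3} : Set F) :=
      div_mem (sub_mem (mul_mem (neg_mem (ofNat_mem _ 3)) (Subfield.subset_closure (Set.mem_singleton _)))
        (ofNat_mem _ 27)) (ofNat_mem _ 4)
    convert hm using 1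
    field_simp; ring
  · rintro ⟨hn, -⟩
    apply h9
    have := Nat.cast_card_eq_zero F
    rw [hn] at this
    exact_mod_cast this

theorem square_gen (h2 : (2 : F) ≠ 0) (ω : Fˣ) (hω : orderOf ω = Fintype.card F - 1) :
    Subfield.closure ({(ω : F) ^ 2} : Set F) = ⊤ := by
  refine subfield_top_of_card _ ?_
  have hodd : Fintype.card F % 2 = 1 := FiniteField.odd_card_of_char_ne_two (fun e => h2 (by have := ringChar.charP F; rw [e] at this; exact_mod_cast CharP.cast_eq_zero F 2))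
  have hmem : ∀ i : ℕ, ((ω : F) ^ 2) ^ i ∈ Subfield.closure ({(ω : F) ^ 2} : Set F) := fun i =>
    pow_mem (Subfield.subset_closure (Set.mem_singleton _)) i
  let e : Option (Fin ((Fintype.card F - 1) / 2)) → Subfield.closure ({(ω : F) ^ 2} : Set F) := fun o =>
    o.elim 0 fun i => ⟨_, hmem i⟩
  have he : Function.Injective e := by
    rintro (_ | i) (_ | j) h
    · rfl
    · exact absurd (congrArg Subtype.val h).symm (pow_ne_zero _ (pow_ne_zero _ ω.ne_zero))
    · exact absurd (congrArg Subtype.val h) (pow_ne_zero _ (pow_ne_zero _ ω.ne_zero))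
    · have h' : ω ^ (2 * (i : ℕ)) = ω ^ (2 * (j : ℕ)) := by
        apply Units.ext
        rw [Units.val_pow_eq_pow_val, Units.val_pow_eq_pow_val, pow_mul, pow_mul]
        exact congrArg Subtype.val h
      have := pow_injOn_Iio_orderOf (x := ω) (by simp; omega) (by simp; omega) h'
      exact congrArg some (Fin.ext (by omega))
  have := Nat.card_le_card_of_injective e he
  rw [Nat.card_eq_fintype_card, Fintype.card_option, Fintype.card_fin] at this
  omega

theorem exists_params_big (h2 : (2 : F) ≠ 0) (h3 : (3 : F) ≠ 0) :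
    ∃ y : F, y ≠ 0 ∧ 4 * y ^ 2 + 27 ≠ 0 ∧ 4 * y ^ 2 - 81 ≠ 0 ∧ Subfield.closure ({y ^ 2} : Set F) = ⊤ := by
  classical
  obtain ⟨ω, hω, -⟩ := CfsgLib.SL2Pres.exists_generator (F := F)
  obtain ⟨p, hp⟩ := CharP.exists F
  have : Fact p.Prime := ⟨CharP.char_is_prime F p⟩
  obtain ⟨f, -, hf⟩ := FiniteField.card F p
  have hpp : p.Prime := Fact.out
  have hp2 : p ≠ 2 := by rintro rfl; exact h2 (by exact_mod_cast CharP.cast_eq_zero F 2)
  have hp3 : p ≠ 3 := by rintro rfl; exact h3 (by exact_mod_cast CharP.cast_eq_zero F 3)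
  have hp5 : 5 ≤ p := by
    have := hpp.two_le
    have : p ≠ 4 := fun e => absurd (e ▸ hpp) (by norm_num)
    omega
  have h4 : (4 : F) ≠ 0 := by rw [show (4 : F) = 2 ^ 2 by norm_num]; exact pow_ne_zero _ h2
  rcases Nat.lt_or_ge 1 (f : ℕ) with hf1 | hf1
  · have hlt : p < Fintype.card F := by
      rw [hf]; exact lt_self_pow₀ hpp.one_lt hf1
    have htop := square_gen h2 ω hω
    have hnot : ∀ n : F, n ∈ (⊥ : Subfield F) → (4 : F) * (ω : F) ^ 2 + n ≠ 0 := by
      intro n hn e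
      have hmem : (ω : F) ^ 2 ∈ (⊥ : Subfield F) := by
        rw [show (ω : F) ^ 2 = -n / 4 by field_simp; linear_combination e]
        exact div_mem (neg_mem hn) (ofNat_mem _ 4)
      have hbt : (⊥ : Subfield F) = ⊤ := by
        rw [eq_top_iff, ← htop, Subfield.closure_le, Set.singleton_subset_iff]; exact hmem
      have hc := Subfield.card_bot F p
      rw [hbt, Nat.card_congr (Subfield.topEquiv (K := F)).toEquiv, Nat.card_eq_fintype_card] at hc
      omega
    refine ⟨(ω : F), ω.ne_zero, hnot 27 (ofNat_mem _ 27), ?_, htop⟩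
    rw [sub_eq_add_neg]; exact hnot (-81) (neg_mem (ofNat_mem _ 81))
  · have hf' : (f : ℕ) = 1 := by have := f.pos; omega
    rw [hf', pow_one] at hf
    have hbot : ∀ K : Subfield F, K = ⊤ := fun K => by
      refine subfield_top_of_card _ ?_
      have h := Subfield.card_bot F p
      have hle : Nat.card (⊥ : Subfield F) ≤ Nat.card K := Nat.card_le_card_of_injective
        (Subfield.inclusion (bot_le : ⊥ ≤ K)) (Subfield.inclusion (bot_le : ⊥ ≤ K)).injective
      omega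
    suffices ∃ y : F, y ≠ 0 ∧ 4 * y ^ 2 + 27 ≠ 0 ∧ 4 * y ^ 2 - 81 ≠ 0 by
      obtain ⟨y, h0, h1, h2'⟩ := this
      exact ⟨y, h0, h1, h2', hbot _⟩
    by_cases h5 : p = 5
    · subst h5
      have e5 : (5 : F) = 0 := by exact_mod_cast CharP.cast_eq_zero F 5
      refine ⟨1, one_ne_zero, fun e => one_ne_zero (α := F) ?_, fun e => h2 ?_⟩
      · linear_combination e - 6 * e5
      · linear_combination -e - 15 * e5
    by_contra hno
    push Not at hno
    obtain ⟨P, hP⟩ : ∃ P : F[X], P = (C 4 * X ^ 2 + C 27) * (C 4 * X ^ 2 - C 81) := ⟨_, rfl⟩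
    have h16 : (4 : F) * 4 ≠ 0 := mul_ne_zero h4 h4
    have d : P.natDegree = 4 := by rw [hP]; compute_degree!; intro e; exact h16 (by linear_combination e)
    have n0 : P ≠ 0 := fun e => by simp [e] at d
    have hsub : (Finset.univ : Finset F) ⊆ insert 0 P.roots.toFinset := by
      intro t _
      by_cases ht : t = 0
      · simp [ht]
      refine Finset.mem_insert_of_mem (Multiset.mem_toFinset.2 ((mem_roots n0).2 ?_))
      rw [IsRoot, hP, eval_mul]
      simp only [eval_add, eval_sub, eval_mul, eval_pow, eval_C, eval_X]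
      by_cases ht1 : 4 * t ^ 2 + 27 = 0
      · rw [ht1, zero_mul]
      · rw [hno t ht ht1, mul_zero]
    have := (Finset.card_le_card hsub).trans ((Finset.card_insert_le _ _).trans
      (Nat.succ_le_succ ((Multiset.toFinset_card_le _).trans (P.card_roots'.trans d.le))))
    rw [Finset.card_univ, hf] at this
    omega

/-- Two conjugate regular unipotent elements generate `SL₃(q)`, `q` odd. -/
theorem exists_pair_odd (h2 : (2 : F) ≠ 0) : ∃ u g : SL(3, F), (IsNilpotent ((u : Matrix (Fin 3) (Fin 3) F) - 1) ∧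
    ((u : Matrix (Fin 3) (Fin 3) F) - 1) ^ (3 - 1) ≠ 0) ∧ Subgroup.closure ({u, g * u * g⁻¹} : Set (SL(3, F))) = ⊤ := by
  suffices h : ∃ x y z : F, x ≠ 0 ∧ x ^ 2 = y ^ 2 ∧ Subgroup.closure ({uJ, vL x y z} : Set (SL(3, F))) = ⊤ by
    obtain ⟨x, y, z, hx, hxy, hcl⟩ := h
    obtain ⟨g, hg⟩ := exists_conj x y z hx hxy
    exact ⟨uJ, g, uJ_regular, by rw [← hg]; exact hcl⟩
  by_cases h3 : (3 : F) = 0
  · obtain ⟨ω, hω, hgen⟩ := CfsgLib.SL2Pres.exists_generator (F := F)
    exact exists_params_three h2 h3 ω hω hgen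
  · obtain ⟨y, h0, h1, h2', hg⟩ := exists_params_big h2 h3
    exact closure_of_params h2 h3 y h0 h1 h2' hg

end CfsgLib.RegPair
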