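import Cfsg.Agent.RegPair.HigherFull
import Cfsg.Agent.RegPair.Odd

/-!
# Two conjugate regular unipotent generators of `SLₙ(q)`, `n ≥ 4`
-/

set_option autoImplicit false

namespace CfsgLib.RegPair.Higher

open Matrix CfsgLib.MaxSub Cfsg.Geo

variable {F : Type*} [Field F] [Fintype F] {m : ℕ}

theorem prime_top (hp : (Fintype.card F).Prime) (K : Subfield F) : K = ⊤ := by
  refine subfield_top_of_card K ?_
  have hd := AddSubgroup.card_addSubgroup_dvd_card K.toSubring.toAddSubgroup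
  rw [Nat.card_eq_fintype_card (α := F)] at hd
  rcases hp.eq_one_or_self_of_dvd _ hd with h | h
  · exfalso
    have h1 : Nat.card K = 1 := h
    obtain ⟨hs, -⟩ := Nat.card_eq_one_iff_unique.1 h1
    exact zero_ne_one (congrArg Subtype.val (hs.elim (0 : K) 1))
  · have h1 : Nat.card K = Fintype.card F := h
    have := Fintype.card_pos (α := F)
    omega

theorem mem_top_of_gen {ω : Fˣ} (hgen : ∀ t : F, t ≠ 0 → ∃ n : ℕ, t = (ω : F) ^ n) (K : Subfield F)
    (h : (ω : F) ∈ K) : K = ⊤ := by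
  rw [eq_top_iff]
  intro t _
  by_cases ht : t = 0
  · rw [ht]; exact zero_mem _
  · obtain ⟨k, hk⟩ := hgen t ht
    rw [hk]; exact pow_mem h _

/-- The conjugating element in `SL`. -/
noncomputable def rr (m : ℕ) {F : Type*} [Field F] (x0 : Fin (m + 4) → F) : Matrix.SpecialLinearGroup (Fin (m + 4)) F :=
  ⟨(tv x0 (ax m F) : GL (Fin (m + 4)) F).1, by
    have h := tv_mem_specialLinear x0 (ax m F)
    rw [specialLinear, MonoidHom.mem_ker] at h
    exact congrArg Units.val h⟩

theorem toGL_rr (x0 : Fin (m + 4) → F) : Matrix.SpecialLinearGroup.toGL (rr m x0) = tv x0 (ax m F) := Units.ext rfl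

theorem regular_uu : IsNilpotent ((uu m F : Matrix (Fin (m + 4)) (Fin (m + 4)) F) - 1) ∧
    ((uu m F : Matrix (Fin (m + 4)) (Fin (m + 4)) F) - 1) ^ (m + 4 - 1) ≠ 0 := by
  have e : (uu m F : Matrix (Fin (m + 4)) (Fin (m + 4)) F) - 1 = shiftN m F := by
    show 1 + shiftN m F - 1 = shiftN m F
    rw [add_sub_cancel_left]
  rw [e]
  exact ⟨⟨m + 4, shiftN_nilpotent⟩, shiftN_pow_ne_zero⟩

theorem closure_top (x0 : Fin (m + 4) → F)
    (h : ∀ H : Subgroup (GL (Fin (m + 4)) F), UU m F ∈ H → tv x0 (ax m F) * UU m F * (tv x0 (ax m F))⁻¹ ∈ H →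
      (∀ g ∈ H, g ∈ Subgroup.closure ({UU m F, tv x0 (ax m F) * UU m F * (tv x0 (ax m F))⁻¹} : Set (GL (Fin (m + 4)) F))) →
      specialLinear (Fin (m + 4)) F ≤ H) :
    Subgroup.closure ({uu m F, rr m x0 * uu m F * (rr m x0)⁻¹} : Set (Matrix.SpecialLinearGroup (Fin (m + 4)) F)) = ⊤ := by
  set H0 := Subgroup.closure ({uu m F, rr m x0 * uu m F * (rr m x0)⁻¹} : Set (Matrix.SpecialLinearGroup (Fin (m + 4)) F))
  have e : H0.map Matrix.SpecialLinearGroup.toGL =
      Subgroup.closure ({UU m F, tv x0 (ax m F) * UU m F * (tv x0 (ax m F))⁻¹} : Set (GL (Fin (m + 4)) F)) := by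
    rw [MonoidHom.map_closure, Set.image_pair, map_mul, map_mul, map_inv, toGL_rr]; rfl
  have hSL := h (H0.map Matrix.SpecialLinearGroup.toGL) ⟨_, Subgroup.subset_closure (by simp), rfl⟩
    (by rw [e]; exact Subgroup.subset_closure (by simp)) (fun g hg => by rw [← e]; exact hg)
  rw [eq_top_iff]
  intro g _
  have hg : Matrix.SpecialLinearGroup.toGL g ∈ specialLinear (Fin (m + 4)) F := by
    rw [specialLinear, MonoidHom.mem_ker]
    exact Units.ext g.2
  obtain ⟨g', hg', e'⟩ := hSL hg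
  have : g' = g := Subtype.ext (congrArg Units.val e')
  rwa [← this]

/-- In characteristic two the bigger group normalises the smaller. -/
theorem specialLinear_le_two (h2 : (2 : F) = 0) (x0 : Fin (m + 4) → F) (h0 : ax m F ⬝ᵥ x0 = 0)
    (h1 : ax m F ⬝ᵥ PP x0 1 = 0) (hc : x0 (Fin.last (m + 3)) ≠ 0)
    (hfull : ∀ M : Subgroup (GL (Fin (m + 4)) F), UU m F ∈ M → tv x0 (ax m F) ∈ M → FullAxis M (ax m F))
    {H : Subgroup (GL (Fin (m + 4)) F)} (hU : UU m F ∈ H) (hV : tv x0 (ax m F) * UU m F * (tv x0 (ax m F))⁻¹ ∈ H)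
    (hH : ∀ g ∈ H, g ∈ Subgroup.closure ({UU m F, tv x0 (ax m F) * UU m F * (tv x0 (ax m F))⁻¹} : Set (GL (Fin (m + 4)) F)))
    {w : Fin (m + 4) → F} (hw : InX H w) (hw0 : w ≠ 0) : specialLinear (Fin (m + 4)) F ≤ H := by
  set r := tv x0 (ax m F) with hr
  set M := Subgroup.closure ({UU m F, r} : Set (GL (Fin (m + 4)) F))
  have hUM : UU m F ∈ M := Subgroup.subset_closure (by simp)
  have hrM : r ∈ M := Subgroup.subset_closure (by simp)
  have hHM : H ≤ M := fun g hg => by
    have hle : Subgroup.closure ({UU m F, r * UU m F * r⁻¹} : Set (GL (Fin (m + 4)) F)) ≤ M := by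
      rw [Subgroup.closure_le]
      rintro g (rfl | rfl)
      · exact hUM
      · exact M.mul_mem (M.mul_mem hrM hUM) (M.inv_mem hrM)
    exact hle (hH g hg)
  have hirrH := irreducible hU hV h0 h1 hc
  have hSL := specialLinear_le_of_fullAxis (hirrH.mono hHM) (a := ax m F)
    (fun e => one_ne_zero (α := F) (by simpa [ax] using congrFun e 0)) (hfull M hUM hrM)
  have hr2 : r⁻¹ = r := by
    rw [hr, tv_inv]
    congr 1
    funext i
    show -x0 i = x0 i
    linear_combination -x0 i * h2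
  have hnorm : ∀ g ∈ M, ∀ h ∈ H, g * h * g⁻¹ ∈ H := by
    have hrr : r * r = 1 := by
      nth_rewrite 1 [← hr2]
      exact inv_mul_cancel r
    have key : ∀ h ∈ H, r * h * r⁻¹ ∈ H := by
      intro h hh
      have hc' := hH h hh
      induction hc' using Subgroup.closure_induction with
      | mem x hx =>
        rcases hx with rfl | rfl
        · exact hV
        · rw [hr2]
          have : r * (r * UU m F * r) * r = (r * r) * UU m F * (r * r) := by simp only [mul_assoc]
          rw [this, hrr, one_mul, mul_one]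
          exact hU
      | one => rw [mul_one, mul_inv_cancel]; exact H.one_mem
      | mul x y hx hy ihx ihy =>
        have hx' : x ∈ H := (Subgroup.closure_le H).2 (by
          rintro g (rfl | rfl)
          · exact hU
          · exact hV) hx
        have hy' : y ∈ H := (Subgroup.closure_le H).2 (by
          rintro g (rfl | rfl)
          · exact hU
          · exact hV) hy
        rw [show r * (x * y) * r⁻¹ = (r * x * r⁻¹) * (r * y * r⁻¹) by group]
        exact H.mul_mem (ihx hx') (ihy hy')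
      | inv x hx ihx =>
        have hx' : x ∈ H := by simpa using H.inv_mem hh
        rw [show r * x⁻¹ * r⁻¹ = (r * x * r⁻¹)⁻¹ by group]
        exact H.inv_mem (ihx hx')
    intro g hg
    induction hg using Subgroup.closure_induction with
    | mem x hx =>
      rcases hx with rfl | rfl
      · exact fun h hh => H.mul_mem (H.mul_mem hU hh) (H.inv_mem hU)
      · exact key
    | one => intro h hh; simpa using hh
    | mul x y _ _ ihx ihy =>
      intro h hh
      rw [show x * y * h * (x * y)⁻¹ = x * (y * h * y⁻¹) * x⁻¹ by group]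
      exact ihx _ (ihy h hh)
    | inv x hx ihx =>
      intro h hh
      have hfin : ∀ k : ℕ, x ^ k * h * (x ^ k)⁻¹ ∈ H := by
        intro k
        induction k with
        | zero => simpa using hh
        | succ k ih =>
          rw [show x ^ (k + 1) * h * (x ^ (k + 1))⁻¹ = x * (x ^ k * h * (x ^ k)⁻¹) * x⁻¹ by rw [pow_succ']; group]
          exact ihx _ ih
      have e : x⁻¹ = x ^ (orderOf x - 1) := by
        refine inv_eq_of_mul_eq_one_left ?_
        rw [← pow_succ, Nat.sub_add_cancel (orderOf_pos x), pow_orderOf_eq_one]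
      rw [e]; exact hfin _
  have hone : ∀ v : Fin (m + 4) → F, ax m F ⬝ᵥ v = 0 → (∀ c : F, c • v ≠ w) → tv v (ax m F) ∈ H := by
    intro v hv hne
    obtain ⟨a, hav, haw⟩ := exists_dot_eq_zero_one hne
    rw [dotProduct_comm] at hav haw
    have h := hnorm (tv v a) (hSL (tv_mem_specialLinear v a)) _ hw.2
    rw [conj_tv, tv_mulVec hav, haw, one_smul, tv_inv, vecMul_tv (by rw [dotProduct_neg, hav, neg_zero]), dotProduct_neg, hv,
      neg_zero, zero_smul, add_zero] at h
    have := H.mul_mem (H.inv_mem hw.2) h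
    rw [tv_inv, tv_mul_left (by rw [dotProduct_neg, hw.1, neg_zero]) (by rw [dotProduct_add, hw.1, hv, add_zero]),
      neg_add_cancel_left] at this
    exact this
  obtain ⟨z, hz, hzne⟩ : ∃ z : Fin (m + 4) → F, ax m F ⬝ᵥ z = 0 ∧ ∀ c : F, c • w ≠ z := by
    by_contra hcon
    push Not at hcon
    set z1 : Fin (m + 4) → F := Pi.single ⟨1, by omega⟩ 1
    set z2 : Fin (m + 4) → F := Pi.single ⟨2, by omega⟩ 1
    obtain ⟨c1, e1⟩ := hcon z1 (by rw [ax_dot]; exact Pi.single_eq_of_ne (fun e => by simp [Fin.ext_iff] at e) _)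
    obtain ⟨c2, e2⟩ := hcon z2 (by rw [ax_dot]; exact Pi.single_eq_of_ne (fun e => by simp [Fin.ext_iff] at e) _)
    have a1 := congrFun e1 ⟨1, by omega⟩
    have a2 := congrFun e2 ⟨1, by omega⟩
    have a3 := congrFun e2 ⟨2, by omega⟩
    simp [z1, z2, Fin.ext_iff] at a1 a2 a3
    rcases a2 with h | h
    · rw [h, zero_mul] at a3; exact zero_ne_one a3
    · rw [h, mul_zero] at a1; exact zero_ne_one a1
  refine specialLinear_le_of_fullAxis hirrH (a := ax m F)
    (fun e => one_ne_zero (α := F) (by simpa [ax] using congrFun e 0)) fun v hv => ?_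
  by_cases h : ∀ c : F, c • v ≠ w
  · exact hone v hv h
  push Not at h
  obtain ⟨c, hc'⟩ := h
  have hc0 : c ≠ 0 := by rintro rfl; rw [zero_smul] at hc'; exact hw0 hc'.symm
  have hnz : ∀ d : F, d • z ≠ w := fun d e => by
    have hd : d ≠ 0 := by rintro rfl; rw [zero_smul] at e; exact hw0 e.symm
    exact hzne d⁻¹ (by rw [← e, smul_smul, inv_mul_cancel₀ hd, one_smul])
  have hvz : ∀ d : F, d • (v - z) ≠ w := fun d e => by
    have hd : d ≠ 0 := by rintro rfl; rw [zero_smul] at e; exact hw0 e.symm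
    refine hzne (c⁻¹ - d⁻¹) ?_
    rw [sub_smul]
    nth_rewrite 1 [← hc']
    rw [← e, smul_smul, smul_smul, inv_mul_cancel₀ hc0, inv_mul_cancel₀ hd, one_smul, one_smul, sub_sub_cancel]
  have := tv_mem_add_left (M := H) (by rw [dotProduct_sub, hv, hz, sub_zero]) hz
    (hone _ (by rw [dotProduct_sub, hv, hz, sub_zero]) hvz) (hone z hz hnz)
  rwa [sub_add_cancel] at this

theorem odd_field_gen (h2 : (2 : F) ≠ 0) (ω : Fˣ) (hω : orderOf ω = Fintype.card F - 1) :
    Subfield.closure ({(ω : F) ^ 3} : Set F) = ⊤ := by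
  have hodd : Fintype.card F % 2 = 1 := FiniteField.odd_card_of_char_ne_two
    (fun e => h2 (by have := ringChar.charP F; rw [e] at this; exact_mod_cast CharP.cast_eq_zero F 2))
  set K := Subfield.closure ({(ω : F) ^ 3} : Set F)
  let e : Option (Fin ((Fintype.card F - 1 + 2) / 3)) → K := fun o =>
    o.elim 0 fun i => ⟨_, pow_mem (Subfield.subset_closure (Set.mem_singleton ((ω : F) ^ 3))) (i : ℕ)⟩
  have he : Function.Injective e := by
    rintro (_ | i) (_ | j) h
    · rfl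
    · exact absurd (congrArg Subtype.val h).symm (pow_ne_zero _ (pow_ne_zero _ ω.ne_zero))
    · exact absurd (congrArg Subtype.val h) (pow_ne_zero _ (pow_ne_zero _ ω.ne_zero))
    · have h' : ω ^ (3 * (i : ℕ)) = ω ^ (3 * (j : ℕ)) := by
        apply Units.ext
        rw [Units.val_pow_eq_pow_val, Units.val_pow_eq_pow_val, pow_mul, pow_mul]
        exact congrArg Subtype.val h
      have := pow_injOn_Iio_orderOf (x := ω) (by simp; omega) (by simp; omega) h'
      exact congrArg some (Fin.ext (by omega))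
  have hcard := Nat.card_le_card_of_injective e he
  rw [Nat.card_eq_fintype_card, Fintype.card_option, Fintype.card_fin] at hcard
  have hd := AddSubgroup.card_mul_index K.toSubring.toAddSubgroup
  rw [Nat.card_eq_fintype_card (α := F), show Nat.card K.toSubring.toAddSubgroup = Nat.card K from rfl] at hd
  refine subfield_top_of_card K ?_
  rcases Nat.lt_or_ge K.toSubring.toAddSubgroup.index 3 with h | h
  · have hne : K.toSubring.toAddSubgroup.index ≠ 2 := fun e => by rw [e] at hd; omega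
    have hne0 : K.toSubring.toAddSubgroup.index ≠ 0 := AddSubgroup.index_ne_zero_of_finite
    have h1 : K.toSubring.toAddSubgroup.index = 1 := by omega
    rw [h1, mul_one] at hd
    omega
  · have : Nat.card K * 3 ≤ Nat.card K * K.toSubring.toAddSubgroup.index := Nat.mul_le_mul_left _ h
    omega

theorem scalarsA_odd (h2 : (2 : F) ≠ 0) (s0 : F) (hs0 : s0 ≠ 0) {M : Subgroup (GL (Fin (m + 4)) F)} (hU : UU m F ∈ M)
    (hV : tv (s0 • xl m F) (ax m F) * UU m F * (tv (s0 • xl m F) (ax m F))⁻¹ ∈ M)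
    (hcase : (Fintype.card F).Prime ∨ (m = 0 ∧ Subfield.closure ({s0 ^ 3} : Set F) = ⊤)) :
    ∀ c : F, c ∈ SS M (xl m F) 0 := by
  have hlen := fun {k : ℕ} (hk : 2 ≤ k) (hkt : k ≤ m + 2) =>
    lens s0 hU hV ax_inv_xl (m + 2) (fun k h => ax_PP_low h) hk hkt
  have h4 : (4 : F) ≠ 0 := by rw [show (4 : F) = 2 * 2 by norm_num]; exact mul_ne_zero h2 h2
  have z0 : ax m F ⬝ᵥ PP (xl m F) 0 = 0 := by rw [PP_zero]; exact ax_xl
  by_cases hm : m = 0
  · subst hm
    have k4 : ax 0 F ⬝ᵥ PP (xl 0 F) (2 + 2) = 4 := by rw [ax_PP_xl]; norm_num [Nat.choose]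
    have k3 : ax 0 F ⬝ᵥ PP (xl 0 F) (1 + 2) = 1 := by rw [ax_PP_xl]; simp
    have hr := hlen (le_refl 2) (le_refl 2)
    have ht0 : 4 * s0 ^ 3 * s0 ^ 3 ∈ SS M (xl 0 F) 0 := SS_down hU (a := 0) (j := 2) (b := 2) z0 k4 hr hr
    refine SS_top ?_ ht0 (mul_ne_zero (mul_ne_zero h4 (pow_ne_zero _ hs0)) (pow_ne_zero _ hs0))
    rcases hcase with hp | ⟨-, htop⟩
    · exact prime_top hp _
    have z1 : ax 0 F ⬝ᵥ PP (xl 0 F) (0 + 1) = 0 := ax_PP_low (by omega)
    have z2 : ax 0 F ⬝ᵥ PP (xl 0 F) (1 + 1) = 0 := ax_PP_low (by omega)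
    set t0 := 4 * s0 ^ 3 * s0 ^ 3
    set L := multField M (xl 0 F)
    have h9 : t0 * s0 ^ 3 ∈ L := fun s hs => by
      have := SS_down hU (a := 0) (j := 1) (b := 2) z0 k3 (SS_up hU ax_inv_xl z1 hs ht0) hr
      rwa [show 1 * (s * t0) * s0 ^ 3 = t0 * s0 ^ 3 * s by ring] at this
    have h15 : 4 * t0 * t0 * s0 ^ 3 ∈ L := fun s hs => by
      have := SS_down hU (a := 0) (j := 2) (b := 2) z0 k4 (SS_up hU ax_inv_xl z2 (SS_up hU ax_inv_xl z1 hs ht0) ht0) hr
      rwa [show 4 * (s * t0 * t0) * s0 ^ 3 = 4 * t0 * t0 * s0 ^ 3 * s by ring] at this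
    have h6 : s0 ^ 6 ∈ L := by
      have := div_mem (div_mem h15 h9) (ofNat_mem L 16)
      rwa [show 4 * t0 * t0 * s0 ^ 3 / (t0 * s0 ^ 3) / 16 = s0 ^ 6 by
        have h16 : (16 : F) ≠ 0 := by rw [show (16 : F) = 4 * 4 by norm_num]; exact mul_ne_zero h4 h4
        simp only [t0]; field_simp; ring] at this
    have h3 : s0 ^ 3 ∈ L := by
      have := div_mem (div_mem h9 h6) (ofNat_mem L 4)
      rwa [show t0 * s0 ^ 3 / s0 ^ 6 / 4 = s0 ^ 3 by simp only [t0]; field_simp] at this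
    rw [eq_top_iff, ← htop, Subfield.closure_le, Set.singleton_subset_iff]
    exact h3
  · have hr := hlen (le_refl 2) (by omega)
    have hs := hlen (k := m + 1) (by omega) (by omega)
    have ht0 := SS_down hU (a := 0) (j := 2) (b := m + 1) z0
      (show ax m F ⬝ᵥ PP (xl m F) (2 + (m + 1)) = 1 by rw [ax_PP_xl, show 2 + (m + 1) = m + 3 by omega]; simp) hr hs
    refine SS_top ?_ ht0 (mul_ne_zero (mul_ne_zero one_ne_zero (pow_ne_zero _ hs0)) (pow_ne_zero _ hs0))
    exact prime_top (hcase.resolve_right fun h => hm h.1) _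

theorem scalarsA_two (h2 : (2 : F) = 0) (s0 : F) (hs0 : s0 ≠ 0) {M : Subgroup (GL (Fin (m + 4)) F)} (hU : UU m F ∈ M)
    (hr : tv (s0 • xl m F) (ax m F) ∈ M)
    (hcase : (Fintype.card F).Prime ∨ (m = 0 ∧ ∀ K : Subfield F, s0 ^ 4 ∈ K → K = ⊤)) :
    ∀ c : F, c ∈ SS M (xl m F) 0 := by
  have z0 : ax m F ⬝ᵥ PP (xl m F) 0 = 0 := by rw [PP_zero]; exact ax_xl
  have hs : s0 ∈ SS M (xl m F) 0 := ⟨by rw [dotProduct_smul, z0, smul_zero], by rw [PP_zero]; exact hr⟩
  refine SS_top ?_ hs hs0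
  rcases hcase with hp | ⟨rfl, htop⟩
  · exact prime_top hp _
  refine htop _ fun s hmem => ?_
  have z1 : ax 0 F ⬝ᵥ PP (xl 0 F) (0 + 1) = 0 := ax_PP_low (by omega)
  have z2 : ax 0 F ⬝ᵥ PP (xl 0 F) (1 + 1) = 0 := ax_PP_low (by omega)
  have h3 := SS_up hU ax_inv_xl z2 (SS_up hU ax_inv_xl z1 hs hs) hs
  have := SS_down hU (a := 0) (j := 1) (b := 2) z0
    (show ax 0 F ⬝ᵥ PP (xl 0 F) (1 + 2) = 1 by rw [ax_PP_xl]; simp) (SS_up hU ax_inv_xl z1 hmem hs) h3
  rwa [show 1 * (s * s0) * (s0 * s0 * s0) = s0 ^ 4 * s by ring] at this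

theorem scalarsB_odd {ω : Fˣ} (hgen : ∀ t : F, t ≠ 0 → ∃ n : ℕ, t = (ω : F) ^ n)
    (hω : orderOf ω = Fintype.card F - 1) (h2 : (2 : F) ≠ 0) (hnp : ¬ (Fintype.card F).Prime) (hm : 1 ≤ m)
    {M : Subgroup (GL (Fin (m + 4)) F)} (hU : UU m F ∈ M)
    (hV : tv (zB m (ω : F)) (ax m F) * UU m F * (tv (zB m (ω : F)) (ax m F))⁻¹ ∈ M) :
    ∀ c : F, c ∈ SS M (zB m (ω : F)) 0 := by
  set y : F := (ω : F)
  set c := 1 + ((m + 4 : ℕ) : F) * y with hcdef
  have hy : y ≠ 0 := ω.ne_zero
  have z0 : ax m F ⬝ᵥ PP (zB m y) 0 = 0 := ax_zB_low y (by omega)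
  have z1 : ax m F ⬝ᵥ PP (zB m y) (0 + 1) = 0 := ax_zB_low y (by omega)
  have z2 : ax m F ⬝ᵥ PP (zB m y) (1 + 1) = 0 := ax_zB_low y (by omega)
  have hlen := fun {k : ℕ} (hk : 2 ≤ k) (hkt : k ≤ m + 1) =>
    lens (1 : F) hU (by rw [one_smul]; exact hV) (ax_inv_zB y) (m + 1) (fun k h => ax_zB_low y h) hk hkt
  simp only [one_pow] at hlen
  set L := multField M (zB m y)
  rcases Nat.eq_or_lt_of_le hm with rfl | hm2
  · -- five dimensions
    have h22 := hlen (le_refl 2) (le_refl 2)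
    have hc0 := SS_down hU (a := 0) (j := 2) (b := 2) z0 (ax_zB_three (m := 1) y) h22 h22
    have hy1 := SS_down hU (a := 1) (j := 1) (b := 2) z1 (ax_zB_two (m := 1) y) h22 h22
    have hy2 := SS_down hU (a := 0) (j := 1) (b := 2) z0 (ax_zB_two (m := 1) y) hy1 h22
    have key : ∀ t ∈ SS M (zB 1 y) 0, y * t ∈ L := fun t ht s hs => by
      have := SS_down hU (a := 0) (j := 1) (b := 2) z0 (ax_zB_two (m := 1) y) (SS_up hU (ax_inv_zB y) z1 hs ht) h22
      rwa [show y * (s * t) * 1 = y * t * s by ring] at this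
    have h3 : y * (y * (y * 1 * 1) * 1) ∈ L := key _ hy2
    have hb : y * (c * 1 * 1) ∈ L := key _ hc0
    refine SS_top (mem_top_of_gen hgen L ?_) hy2 (by simp [hy])
    have h5 : (5 : F) ∈ L := ofNat_mem L 5
    have h3' : y ^ 3 ∈ L := by rwa [show y ^ 3 = y * (y * (y * 1 * 1) * 1) by ring]
    have hb' : y + 5 * y ^ 2 ∈ L := by
      rwa [show y + 5 * y ^ 2 = y * (c * 1 * 1) by rw [hcdef]; push_cast; ring]
    set b := y + 5 * y ^ 2 with hbdef
    by_cases hd : 1 + 5 * b = 0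
    · exfalso
      obtain ⟨p, hp⟩ := CharP.exists F
      have : Fact p.Prime := ⟨CharP.char_is_prime F p⟩
      obtain ⟨f, -, hf⟩ := FiniteField.card F p
      have hpp : p.Prime := Fact.out
      have h5y : (5 * y) ^ 3 = 1 := by
        rw [hbdef] at hd
        linear_combination (5 * y - 1) * hd
      have hf2 : 2 ≤ (f : ℕ) := by
        by_contra h
        apply hnp
        have := f.pos
        rw [hf, show (f : ℕ) = 1 by omega, pow_one]; exact hpp
      have h5p : ((5 : F) ^ 3) ^ p = (5 : F) ^ 3 := by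
        have := map_natCast (frobenius F p) (5 ^ 3)
        rw [frobenius_def] at this
        exact_mod_cast this
      have h5z : (5 : F) ≠ 0 := fun e => by rw [e, zero_mul, zero_pow (by norm_num)] at h5y; exact zero_ne_one h5y
      have hy3 : y ^ 3 = ((5 : F) ^ 3)⁻¹ := by
        rw [mul_pow] at h5y; exact eq_inv_of_mul_eq_one_right h5y
      have hfix : (y ^ 3) ^ p = y ^ 3 := by rw [hy3, inv_pow, h5p]
      have hone : (y ^ 3) ^ (p - 1) = 1 := by
        refine mul_right_cancel₀ (pow_ne_zero 3 hy) ?_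
        rw [← pow_succ, Nat.sub_add_cancel hpp.one_le, hfix, one_mul]
      have hord : orderOf ω ≤ 3 * (p - 1) := by
        refine orderOf_le_of_pow_eq_one (by have := hpp.two_le; omega) (Units.ext ?_)
        rw [Units.val_pow_eq_pow_val, Units.val_one, pow_mul]; exact hone
      have hp3 : 3 ≤ p := by
        have h := hpp.two_le
        by_contra h'
        have : p = 2 := by omega
        subst this
        exact h2 (by exact_mod_cast CharP.cast_eq_zero F 2)
      have : p * p ≤ Fintype.card F := by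
        rw [hf, ← pow_two]; exact Nat.pow_le_pow_right (by omega) hf2
      have : 3 * p ≤ p * p := Nat.mul_le_mul_right p hp3
      omega
    · have e : y = (b + 25 * y ^ 3) / (1 + 5 * b) := by
        rw [eq_div_iff hd, hbdef]; ring
      rw [show (ω : F) = (b + 25 * y ^ 3) / (1 + 5 * b) from e]
      exact div_mem (add_mem hb' (mul_mem (ofNat_mem L 25) h3')) (add_mem (one_mem L) (mul_mem h5 hb'))
  · have hm' : 2 ≤ m := hm2
    have ha := hlen (le_refl 2) (by omega)
    have hb := hlen hm' (by omega)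
    have hb' := hlen (k := m + 1) (by omega) le_rfl
    have k2 : ax m F ⬝ᵥ PP (zB m y) (2 + m) = y := by rw [show 2 + m = m + 2 by omega]; exact ax_zB_two y
    have k3 : ax m F ⬝ᵥ PP (zB m y) (2 + (m + 1)) = c := by rw [show 2 + (m + 1) = m + 3 by omega]; exact ax_zB_three y
    have hy0 : y * 1 * 1 ∈ SS M (zB m y) 0 := SS_down hU (a := 0) (j := 2) z0 k2 ha hb
    have hc0 : c * 1 * 1 ∈ SS M (zB m y) 0 := SS_down hU (a := 0) (j := 2) z0 k3 ha hb'
    simp only [mul_one] at hy0 hc0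
    have key : ∀ t ∈ SS M (zB m y) 0, ∀ t' ∈ SS M (zB m y) 0, y * t * t' ∈ L := fun t ht t' ht' s hs => by
      have := SS_down hU (a := 0) (j := 2) z0 k2 (SS_up hU (ax_inv_zB y) z2 (SS_up hU (ax_inv_zB y) z1 hs ht) ht') hb
      rwa [show y * (s * t * t') * 1 = y * t * t' * s by ring] at this
    have h3 := key y hy0 y hy0
    have hcy := key y hy0 c hc0
    have h2' : y ^ 2 ∈ L := by
      have := sub_mem hcy (mul_mem (natCast_mem L (m + 4)) h3)
      rwa [show y * y * c - ((m + 4 : ℕ) : F) * (y * y * y) = y ^ 2 by rw [hcdef]; ring] at this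
    refine SS_top (mem_top_of_gen hgen L ?_) hy0 hy
    have := div_mem h3 h2'
    rwa [show y * y * y / y ^ 2 = y by field_simp] at this

theorem scalarsB_two {ω : Fˣ} (hgen : ∀ t : F, t ≠ 0 → ∃ n : ℕ, t = (ω : F) ^ n) (hm : 1 ≤ m)
    {M : Subgroup (GL (Fin (m + 4)) F)} (hU : UU m F ∈ M) (hr : tv (zB m (ω : F)) (ax m F) ∈ M) :
    ∀ c : F, c ∈ SS M (zB m (ω : F)) 0 := by
  set y : F := (ω : F)
  have z0 : ax m F ⬝ᵥ PP (zB m y) 0 = 0 := ax_zB_low y (by omega)
  have h1 : (1 : F) ∈ SS M (zB m y) 0 := ⟨by rw [one_smul]; exact z0, by rw [one_smul, PP_zero]; exact hr⟩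
  have hup : ∀ k ≤ m + 1, (1 : F) ∈ SS M (zB m y) k := by
    intro k
    induction k with
    | zero => intro _; exact h1
    | succ k ih => intro hk; simpa using SS_up hU (ax_inv_zB y) (ax_zB_low y hk) (ih (by omega)) h1
  refine SS_top (mem_top_of_gen hgen _ fun s hs => ?_) h1 one_ne_zero
  have s2 := SS_up hU (ax_inv_zB y) (a := 1) (ax_zB_low y (by omega))
    (SS_up hU (ax_inv_zB y) (a := 0) (ax_zB_low y (by omega)) hs h1) h1
  have := SS_down hU (a := 0) (j := 2) (b := m) z0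
    (show ax m F ⬝ᵥ PP (zB m y) (2 + m) = y by rw [show 2 + m = m + 2 by omega]; exact ax_zB_two y) s2 (hup m (by omega))
  rwa [show y * (s * 1 * 1) * 1 = y * s by ring] at this

theorem exists_pair (m : ℕ) : ∃ u g : Matrix.SpecialLinearGroup (Fin (m + 4)) F,
    (IsNilpotent ((u : Matrix (Fin (m + 4)) (Fin (m + 4)) F) - 1) ∧
      ((u : Matrix (Fin (m + 4)) (Fin (m + 4)) F) - 1) ^ (m + 4 - 1) ≠ 0) ∧
    Subgroup.closure ({u, g * u * g⁻¹} : Set (Matrix.SpecialLinearGroup (Fin (m + 4)) F)) = ⊤ := by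
  obtain ⟨ω, hω, hgen⟩ := CfsgLib.SL2Pres.exists_generator (F := F)
  suffices h : ∃ x0 : Fin (m + 4) → F, ∀ H : Subgroup (GL (Fin (m + 4)) F), UU m F ∈ H →
      tv x0 (ax m F) * UU m F * (tv x0 (ax m F))⁻¹ ∈ H →
      (∀ g ∈ H, g ∈ Subgroup.closure ({UU m F, tv x0 (ax m F) * UU m F * (tv x0 (ax m F))⁻¹} : Set (GL (Fin (m + 4)) F))) →
      specialLinear (Fin (m + 4)) F ≤ H by
    obtain ⟨x0, hx⟩ := h
    exact ⟨uu m F, rr m x0, regular_uu, closure_top x0 hx⟩
  have hax : ax m F ≠ 0 := fun e => one_ne_zero (α := F) (by simpa [ax] using congrFun e 0)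
  by_cases hA : (Fintype.card F).Prime ∨ m = 0
  · obtain ⟨s0, hs0, hodd, heven⟩ : ∃ s0 : F, s0 ≠ 0 ∧
        ((2 : F) ≠ 0 → (Fintype.card F).Prime ∨ (m = 0 ∧ Subfield.closure ({s0 ^ 3} : Set F) = ⊤)) ∧
        ((2 : F) = 0 → (Fintype.card F).Prime ∨ (m = 0 ∧ ∀ K : Subfield F, s0 ^ 4 ∈ K → K = ⊤)) := by
      rcases hA with hp | hm
      · exact ⟨1, one_ne_zero, fun _ => Or.inl hp, fun _ => Or.inl hp⟩
      refine ⟨(ω : F), ω.ne_zero, fun h2 => Or.inr ⟨hm, odd_field_gen h2 ω hω⟩, fun h2 => Or.inr ⟨hm, fun K hK => ?_⟩⟩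
      refine mem_top_of_gen hgen K ?_
      have : CharP F 2 := CharTwo.of_one_ne_zero_of_two_eq_zero one_ne_zero h2
      obtain ⟨f, -, hf⟩ := FiniteField.card F 2
      have e : (ω : F) = ((ω : F) ^ 4) ^ (2 ^ (2 * (f : ℕ) - 2)) := by
        rw [← pow_mul, show (4 : ℕ) * 2 ^ (2 * (f : ℕ) - 2) = Fintype.card F * Fintype.card F by
          rw [hf, ← pow_add, show (4 : ℕ) = 2 ^ 2 by norm_num, ← pow_add]
          congr 1
          have := f.pos
          omega, pow_mul, FiniteField.pow_card, FiniteField.pow_card]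
      rw [e]; exact pow_mem hK _
    refine ⟨s0 • xl m F, fun H hU hV hcl => ?_⟩
    have h0 : ax m F ⬝ᵥ (s0 • xl m F) = 0 := by rw [dotProduct_smul, ax_xl, smul_zero]
    have h1 : ax m F ⬝ᵥ PP (s0 • xl m F) 1 = 0 := by rw [PP_smul, dotProduct_smul, ax_PP_low (by omega), smul_zero]
    have hc : (s0 • xl m F) (Fin.last (m + 3)) ≠ 0 := by rw [Pi.smul_apply, xl_ok]; simpa using hs0
    by_cases h2 : (2 : F) = 0
    · have hT : InX H (s0 ^ (2 + 1) • PP (xl m F) 2) :=
        lens s0 hU hV ax_inv_xl (m + 2) (fun k h => ax_PP_low h) le_rfl (by omega)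
      refine specialLinear_le_two h2 _ h0 h1 hc
        (fun M hUM hrM => fullA hUM (scalarsA_two h2 s0 hs0 hUM hrM (heven h2))) hU hV hcl hT ?_
      refine smul_ne_zero (pow_ne_zero _ hs0) fun e => ?_
      have := congrArg (fun z => PP z (m + 1)) e
      simp only [← PP_add] at this
      have h' := congrArg (fun z => ax m F ⬝ᵥ z) this
      rw [show m + 1 + 2 = m + 3 by omega] at h'
      rw [ax_PP_xl, Nat.choose_self] at h'
      simp only [PP, mulVec_zero, dotProduct_zero, Nat.cast_one] at h'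
      exact one_ne_zero h'
    · exact specialLinear_le_of_fullAxis (irreducible hU hV h0 h1 hc) hax
        (fullA hU (scalarsA_odd h2 s0 hs0 hU hV (hodd h2)))
  · rw [not_or] at hA
    obtain ⟨hnp, hm0⟩ := hA
    have hm : 1 ≤ m := Nat.pos_of_ne_zero hm0
    obtain ⟨p, hp⟩ := CharP.exists F
    have : Fact p.Prime := ⟨CharP.char_is_prime F p⟩
    have hbot : (ω : F) ∉ (⊥ : Subfield F) := fun h => by
      have := mem_top_of_gen hgen _ h
      have hc := Subfield.card_bot F p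
      rw [this, Nat.card_congr (Subfield.topEquiv (K := F)).toEquiv, Nat.card_eq_fintype_card] at hc
      exact hnp (hc ▸ Fact.out)
    have hω1 : 1 + (ω : F) ≠ 0 := fun e => hbot (by
      rw [show (ω : F) = -1 by linear_combination e]; exact neg_mem (one_mem _))
    have hc : 1 + ((m + 4 : ℕ) : F) * (ω : F) ≠ 0 := fun e => by
      have hn : ((m + 4 : ℕ) : F) ≠ 0 := fun e' => by rw [e', zero_mul, add_zero] at e; exact one_ne_zero e
      refine hbot ?_
      rw [show (ω : F) = -1 / ((m + 4 : ℕ) : F) by field_simp; linear_combination e]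
      exact div_mem (neg_mem (one_mem _)) (natCast_mem _ _)
    refine ⟨zB m (ω : F), fun H hU hV hcl => ?_⟩
    have h0 : ax m F ⬝ᵥ zB m (ω : F) = 0 := by
      have := ax_zB_low (F := F) (m := m) (ω : F) (k := 0) (by omega)
      rwa [PP_zero] at this
    have h1 : ax m F ⬝ᵥ PP (zB m (ω : F)) 1 = 0 := ax_zB_low _ (by omega)
    have hlast : zB m (ω : F) (Fin.last (m + 3)) ≠ 0 := by rw [zB_last]; exact hω1
    by_cases h2 : (2 : F) = 0
    · have hT : InX H ((1 : F) ^ (2 + 1) • PP (zB m (ω : F)) 2) :=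
        lens (1 : F) hU (by rw [one_smul]; exact hV) (ax_inv_zB _) (m + 1) (fun k h => ax_zB_low _ h) le_rfl (by omega)
      refine specialLinear_le_two h2 _ h0 h1 hlast
        (fun M hUM hrM => fullB hUM ω.ne_zero hω1 hc (scalarsB_two hgen hm hUM hrM)) hU hV hcl hT ?_
      rw [one_pow, one_smul]
      intro e
      have := congrArg (fun z => PP z m) e
      simp only [← PP_add] at this
      have h' := congrArg (fun z => ax m F ⬝ᵥ z) this
      rw [ax_zB_two] at h'
      simp only [PP, mulVec_zero, dotProduct_zero] at h'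
      exact ω.ne_zero h'
    · exact specialLinear_le_of_fullAxis (irreducible hU hV h0 h1 hlast) hax
        (fullB hU ω.ne_zero hω1 hc (scalarsB_odd hgen hω h2 hnp hm hU hV))

end CfsgLib.RegPair.Higher
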