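import Cfsg.Agent.MaxSub.Transvection

/-!
# A regular unipotent element and a transvection in higher dimension

The Jordan matrix `U = 1 + N`, its orbit of the last basis vector, and the closure rules for the centres of
transvections with the first coordinate as axis.
-/

set_option autoImplicit false

namespace CfsgLib.RegPair.Higher

open Matrix CfsgLib.MaxSub

variable {F : Type*} [Field F] {m : ℕ}

/-- The nilpotent shift. -/
def shiftN (m : ℕ) (F : Type*) [Field F] : Matrix (Fin (m + 4)) (Fin (m + 4)) F :=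
  Matrix.of fun i j => if j.val = i.val + 1 then 1 else 0

theorem det_one_add_shiftN : (1 + shiftN m F).det = 1 := by
  rw [Matrix.det_of_upperTriangular]
  · refine Finset.prod_eq_one fun i _ => ?_
    simp [shiftN]
  · intro i j hij
    simp only [id] at hij
    have h1 : i ≠ j := fun e => by subst e; exact lt_irrefl _ hij
    have h2 : ¬ j.val = i.val + 1 := fun e => by
      have : j.val < i.val := hij
      omega
    simp [shiftN, h1, h2]

/-- The Jordan element of `SL`. -/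
def uu (m : ℕ) (F : Type*) [Field F] : Matrix.SpecialLinearGroup (Fin (m + 4)) F :=
  ⟨1 + shiftN m F, det_one_add_shiftN⟩

/-- The Jordan element of `GL`. -/
def UU (m : ℕ) (F : Type*) [Field F] : GL (Fin (m + 4)) F := Matrix.SpecialLinearGroup.toGL (uu m F)

theorem coe_UU : (UU m F : Matrix (Fin (m + 4)) (Fin (m + 4)) F) = 1 + shiftN m F := rfl

/-- The axis. -/
def ax (m : ℕ) (F : Type*) [Field F] : Fin (m + 4) → F := Pi.single 0 1

/-- The last basis vector. -/
def xl (m : ℕ) (F : Type*) [Field F] : Fin (m + 4) → F := Pi.single (Fin.last (m + 3)) 1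

theorem ax_dot (z : Fin (m + 4) → F) : ax m F ⬝ᵥ z = z 0 := by simp [ax]

theorem shiftN_mulVec (z : Fin (m + 4) → F) (i : Fin (m + 4)) :
    (shiftN m F *ᵥ z) i = if h : i.val + 1 < m + 4 then z ⟨i.val + 1, h⟩ else 0 := by
  simp only [Matrix.mulVec, dotProduct, shiftN, Matrix.of_apply, ite_mul, one_mul, zero_mul]
  split_ifs with h
  · rw [Finset.sum_eq_single (⟨i.val + 1, h⟩ : Fin (m + 4))]
    · simp
    · intro b _ hb
      rw [if_neg fun e => hb (Fin.ext e)]
    · simp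
  · refine Finset.sum_eq_zero fun b _ => ?_
    rw [if_neg]
    have := b.isLt
    omega

theorem shiftN_pow_mulVec (k : ℕ) (z : Fin (m + 4) → F) (i : Fin (m + 4)) :
    ((shiftN m F ^ k) *ᵥ z) i = if h : i.val + k < m + 4 then z ⟨i.val + k, h⟩ else 0 := by
  induction k generalizing i with
  | zero => simp [i.isLt]
  | succ k ih =>
    rw [pow_succ', ← mulVec_mulVec, shiftN_mulVec]
    split_ifs with h h' h'
    · rw [ih, dif_pos (show i.val + 1 + k < m + 4 by omega)]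
      exact congrArg z (Fin.ext (show i.val + 1 + k = i.val + (k + 1) by omega))
    · rw [ih, dif_neg (show ¬ i.val + 1 + k < m + 4 by omega)]
    · omega
    · rfl

theorem shiftN_nilpotent : shiftN m F ^ (m + 4) = 0 := by
  ext i j
  have := shiftN_pow_mulVec (m + 4) (Pi.single j (1 : F)) i
  rw [dif_neg (by omega), Matrix.mulVec_single_one] at this
  simpa using this

theorem shiftN_pow_ne_zero : shiftN m F ^ (m + 3) ≠ 0 := by
  intro h
  have := shiftN_pow_mulVec (m + 3) (xl m F) 0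
  rw [h, zero_mulVec, dif_pos (show (0 : Fin (m + 4)).val + (m + 3) < m + 4 by simp)] at this
  simp [xl, Fin.last] at this

/-- The orbit of a vector. -/
def PP (z : Fin (m + 4) → F) (k : ℕ) : Fin (m + 4) → F :=
  ((UU m F ^ k : GL (Fin (m + 4)) F) : Matrix (Fin (m + 4)) (Fin (m + 4)) F) *ᵥ z

theorem PP_zero (z : Fin (m + 4) → F) : PP z 0 = z := by simp [PP]

theorem PP_succ (z : Fin (m + 4) → F) (k : ℕ) :
    PP z (k + 1) = (UU m F : Matrix (Fin (m + 4)) (Fin (m + 4)) F) *ᵥ PP z k := by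
  rw [PP, PP, pow_succ', Units.val_mul, mulVec_mulVec]

theorem PP_add (z : Fin (m + 4) → F) (j k : ℕ) : PP z (j + k) = PP (PP z k) j := by
  rw [PP, PP, PP, pow_add, Units.val_mul, mulVec_mulVec]

theorem PP_one (z : Fin (m + 4) → F) : PP z 1 = z + shiftN m F *ᵥ z := by
  rw [PP, pow_one, coe_UU, add_mulVec, one_mulVec]

theorem PP_smul (s : F) (z : Fin (m + 4) → F) (k : ℕ) : PP (s • z) k = s • PP z k := mulVec_smul _ _ _

theorem PP_lin (z z' : Fin (m + 4) → F) (k : ℕ) : PP (z + z') k = PP z k + PP z' k := mulVec_add _ _ _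

theorem ax_PP_xl (k : ℕ) : ax m F ⬝ᵥ PP (xl m F) k = (k.choose (m + 3) : F) := by
  rw [ax_dot, PP, Units.val_pow_eq_pow_val, coe_UU, add_comm 1 (shiftN m F), (Commute.one_right _).add_pow,
    Matrix.sum_mulVec, Finset.sum_apply]
  have key : ∀ i, ((shiftN m F ^ i * 1 ^ (k - i) * (k.choose i : Matrix (Fin (m + 4)) (Fin (m + 4)) F)) *ᵥ xl m F) 0 =
      if i = m + 3 then (k.choose i : F) else 0 := by
    intro i
    rw [one_pow, mul_one, ← mulVec_mulVec]
    have e : (k.choose i : Matrix (Fin (m + 4)) (Fin (m + 4)) F) *ᵥ xl m F = (k.choose i : F) • xl m F := by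
      rw [← Matrix.diagonal_natCast]
      ext j; simp [Matrix.mulVec_diagonal]
    rw [e, mulVec_smul, Pi.smul_apply, shiftN_pow_mulVec]
    split_ifs with h1 h2 h2
    · subst h2; simp [xl, Fin.last]
    · have : (⟨(0 : Fin (m + 4)).val + i, h1⟩ : Fin (m + 4)) ≠ Fin.last (m + 3) := fun e => h2 (by simpa [Fin.ext_iff] using e)
      simp only [smul_eq_mul, mul_eq_zero]
      exact Or.inr (Pi.single_eq_of_ne this _)
    · subst h2; simp at h1
    · simp
  rw [Finset.sum_congr rfl fun i _ => key i, Finset.sum_ite_eq']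
  split_ifs with h
  · rfl
  · rw [Finset.mem_range] at h
    rw [Nat.choose_eq_zero_of_lt (by omega), Nat.cast_zero]

theorem ax_PP_low {k : ℕ} (h : k ≤ m + 2) : ax m F ⬝ᵥ PP (xl m F) k = 0 := by
  rw [ax_PP_xl, Nat.choose_eq_zero_of_lt (by omega), Nat.cast_zero]

theorem ax_xl : ax m F ⬝ᵥ xl m F = 0 := by
  rw [← PP_zero (xl m F)]; exact ax_PP_low (by omega)

/-- Solving `U z = z'`. -/
theorem inv_mulVec {z z' : Fin (m + 4) → F} (h : (UU m F : Matrix (Fin (m + 4)) (Fin (m + 4)) F) *ᵥ z = z') :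
    ((UU m F)⁻¹ : GL (Fin (m + 4)) F).1 *ᵥ z' = z := by
  rw [← h, mulVec_mulVec, Units.inv_mul, one_mulVec]

theorem UU_inv_xl : ((UU m F)⁻¹ : GL (Fin (m + 4)) F).1 *ᵥ xl m F = fun i : Fin (m + 4) => (-1 : F) ^ (m + 3 - i.val) := by
  refine inv_mulVec ?_
  rw [coe_UU, add_mulVec, one_mulVec]
  funext i
  rw [Pi.add_apply, shiftN_mulVec]
  split_ifs with h
  · have hne : i ≠ Fin.last (m + 3) := fun e => by simp [Fin.ext_iff] at e; omega
    simp only [xl, Pi.single_apply, hne, if_false]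
    rw [show m + 3 - i.val = m + 3 - (i.val + 1) + 1 by omega, pow_succ]
    ring
  · have : i = Fin.last (m + 3) := Fin.ext (by simp; omega)
    subst this
    simp [xl]

theorem ax_inv_xl : ax m F ⬝ᵥ (((UU m F)⁻¹ : GL (Fin (m + 4)) F).1 *ᵥ xl m F) = (-1) ^ (m + 3) := by
  rw [UU_inv_xl, ax_dot]; simp

/-! ### Centres with axis `ax` -/

/-- `w` is a centre for the axis. -/
def InX (M : Subgroup (GL (Fin (m + 4)) F)) (w : Fin (m + 4) → F) : Prop :=
  ax m F ⬝ᵥ w = 0 ∧ tv w (ax m F) ∈ M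

variable {M : Subgroup (GL (Fin (m + 4)) F)}

theorem InX.step {g : GL (Fin (m + 4)) F} (hg : g ∈ M) {w1 w2 : Fin (m + 4) → F} (h1 : InX M w1) (h2 : InX M w2)
    (h0 : ax m F ⬝ᵥ ((g : Matrix (Fin (m + 4)) (Fin (m + 4)) F) *ᵥ w1) = 0) :
    InX M ((ax m F ⬝ᵥ ((g⁻¹ : GL (Fin (m + 4)) F).1 *ᵥ w2)) • ((g : Matrix (Fin (m + 4)) (Fin (m + 4)) F) *ᵥ w1)) := by
  refine ⟨by rw [dotProduct_smul, h0, smul_zero], ?_⟩
  have hk := tv_mem_conj (M.inv_mem hg) h2.2
  rw [inv_inv] at hk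
  have := tv_rule_axis (v := (g⁻¹ : GL (Fin (m + 4)) F).1 *ᵥ w2) (a := ax m F ᵥ* (g : Matrix (Fin (m + 4)) (Fin (m + 4)) F))
    (by rw [← dotProduct_mulVec, mulVec_mulVec, Units.mul_inv, one_mulVec, h2.1]) h1.1
    (by rw [← dotProduct_mulVec, h0]) hk h1.2
  rw [tv_smul_right] at this
  have h := tv_mem_conj hg this
  rwa [mulVec_smul, vecMul_vecMul, Units.mul_inv, vecMul_one] at h

/-- The scalars `s` with `s • Uᵃ x₀` a centre. -/
def SS (M : Subgroup (GL (Fin (m + 4)) F)) (x0 : Fin (m + 4) → F) (a : ℕ) : Set F := {s | InX M (s • PP x0 a)}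

variable {x0 : Fin (m + 4) → F}

theorem SS_add {a : ℕ} {s t : F} (hs : s ∈ SS M x0 a) (ht : t ∈ SS M x0 a) : s + t ∈ SS M x0 a := by
  refine ⟨?_, ?_⟩
  · rw [add_smul, dotProduct_add, hs.1, ht.1, add_zero]
  · rw [add_smul]; exact tv_mem_add_left hs.1 ht.1 hs.2 ht.2

theorem SS_zero (a : ℕ) : (0 : F) ∈ SS M x0 a :=
  ⟨by rw [zero_smul, dotProduct_zero], by rw [zero_smul, tv_zero_left]; exact M.one_mem⟩

theorem SS_neg {a : ℕ} {s : F} (hs : s ∈ SS M x0 a) : -s ∈ SS M x0 a :=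
  ⟨by rw [neg_smul, dotProduct_neg, hs.1, neg_zero], by rw [neg_smul, ← tv_inv]; exact M.inv_mem hs.2⟩

theorem SS_nsmul {a : ℕ} {s : F} (hs : s ∈ SS M x0 a) : ∀ k : ℕ, (k : F) * s ∈ SS M x0 a
  | 0 => by rw [Nat.cast_zero, zero_mul]; exact SS_zero a
  | k + 1 => by rw [Nat.cast_succ, add_mul, one_mul]; exact SS_add (SS_nsmul hs k) hs

theorem SS_sign {a : ℕ} {s : F} (hs : s ∈ SS M x0 a) (k : ℕ) : (-1) ^ k * s ∈ SS M x0 a := by
  rcases neg_one_pow_eq_or F k with h | h <;> rw [h]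
  · rwa [one_mul]
  · rw [neg_one_mul]; exact SS_neg hs

/-- Upwards. -/
theorem SS_up (hU : UU m F ∈ M) (hσ : ax m F ⬝ᵥ (((UU m F)⁻¹ : GL (Fin (m + 4)) F).1 *ᵥ x0) = (-1) ^ (m + 3))
    {a : ℕ} (hz : ax m F ⬝ᵥ PP x0 (a + 1) = 0) {s t : F} (hs : s ∈ SS M x0 a) (ht : t ∈ SS M x0 0) :
    s * t ∈ SS M x0 (a + 1) := by
  have h := InX.step hU hs ht (by rw [mulVec_smul, ← PP_succ, dotProduct_smul, hz, smul_zero])
  rw [mulVec_smul, mulVec_smul, PP_zero, ← PP_succ, dotProduct_smul, hσ, smul_smul, smul_eq_mul] at h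
  have := SS_sign (show t * (-1) ^ (m + 3) * s ∈ SS M x0 (a + 1) from h) (m + 3)
  rwa [show (-1) ^ (m + 3) * (t * (-1) ^ (m + 3) * s) = ((-1 : F) ^ (m + 3)) ^ 2 * (s * t) by ring, ← pow_mul,
    mul_comm (m + 3), pow_mul, neg_one_sq, one_pow, one_mul] at this

/-- Downwards. -/
theorem SS_down (hU : UU m F ∈ M) {a j b : ℕ} {κ : F} (hz : ax m F ⬝ᵥ PP x0 a = 0)
    (hκ : ax m F ⬝ᵥ PP x0 (j + b) = κ) {s t : F} (hs : s ∈ SS M x0 (a + j)) (ht : t ∈ SS M x0 b) :
    κ * s * t ∈ SS M x0 a := by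
  have e : ((UU m F ^ j)⁻¹ : GL (Fin (m + 4)) F).1 *ᵥ PP x0 (a + j) = PP x0 a := by
    rw [show a + j = j + a from add_comm a j, PP_add, PP, mulVec_mulVec, Units.inv_mul, one_mulVec]
  have h := InX.step (M.inv_mem (M.pow_mem hU j)) hs ht (by rw [mulVec_smul, e, dotProduct_smul, hz, smul_zero])
  rw [mulVec_smul, mulVec_smul, e, inv_inv, ← PP, ← PP_add, dotProduct_smul, hκ, smul_smul, smul_eq_mul] at h
  show InX M ((κ * s * t) • PP x0 a)
  rwa [show κ * s * t = t * κ * s by ring]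

/-- The multipliers of the bottom scalars form a subfield. -/
def multField [Fintype F] (M : Subgroup (GL (Fin (m + 4)) F)) (x0 : Fin (m + 4) → F) : Subfield F where
  carrier := {c | ∀ s ∈ SS M x0 0, c * s ∈ SS M x0 0}
  mul_mem' ha hb s hs := by rw [mul_assoc]; exact ha _ (hb s hs)
  one_mem' s hs := by rwa [one_mul]
  add_mem' ha hb s hs := by rw [add_mul]; exact SS_add (ha s hs) (hb s hs)
  zero_mem' s _ := by rw [zero_mul]; exact SS_zero 0
  neg_mem' ha s hs := by rw [neg_mul]; exact SS_neg (ha s hs)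
  inv_mem' c hc := by
    intro s hs
    by_cases h0 : c = 0
    · rw [h0, _root_.inv_zero, zero_mul]; exact SS_zero 0
    have hpow : ∀ k : ℕ, ∀ s ∈ SS M x0 0, c ^ k * s ∈ SS M x0 0 := by
      intro k
      induction k with
      | zero => intro s hs; rwa [pow_zero, one_mul]
      | succ k ih => intro s hs; rw [pow_succ', mul_assoc]; exact hc _ (ih s hs)
    have h2 : 2 ≤ Fintype.card F := Fintype.one_lt_card
    have e : c⁻¹ = c ^ (Fintype.card F - 2) := by
      refine inv_eq_of_mul_eq_one_left ?_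
      rw [← pow_succ, show Fintype.card F - 2 + 1 = Fintype.card F - 1 by omega, FiniteField.pow_card_sub_one_eq_one c h0]
    rw [e]; exact hpow _ s hs

theorem mem_multField [Fintype F] {c : F} : c ∈ multField M x0 ↔ ∀ s ∈ SS M x0 0, c * s ∈ SS M x0 0 := Iff.rfl

theorem SS_top [Fintype F] (htop : multField M x0 = ⊤) {s : F} (hs : s ∈ SS M x0 0) (hs0 : s ≠ 0) (c : F) :
    c ∈ SS M x0 0 := by
  have := (mem_multField.1 (htop ▸ Subfield.mem_top (c / s) : c / s ∈ multField M x0)) s hs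
  rwa [div_mul_cancel₀ _ hs0] at this

end CfsgLib.RegPair.Higher
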