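import Cfsg.Agent.RegPair.HigherGen

/-!
# All transvections with the given axis
-/

set_option autoImplicit false

namespace CfsgLib.RegPair.Higher

open Matrix CfsgLib.MaxSub

variable {F : Type*} [Field F] {m : ℕ}

theorem ax_inv_PP (z : Fin (m + 4) → F) :
    ((UU m F)⁻¹ : GL (Fin (m + 4)) F).1 *ᵥ PP z 1 = z := by
  rw [PP, pow_one, mulVec_mulVec, Units.inv_mul, one_mulVec]

/-- The mixed base vector. -/
def zB (m : ℕ) {F : Type*} [Field F] (ω : F) : Fin (m + 4) → F := xl m F + ω • PP (xl m F) 1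

theorem PP_zB (ω : F) (k : ℕ) : PP (zB m ω) k = PP (xl m F) k + ω • PP (xl m F) (k + 1) := by
  rw [zB, PP_lin, PP_smul, ← PP_add]

theorem ax_zB (ω : F) (k : ℕ) :
    ax m F ⬝ᵥ PP (zB m ω) k = (k.choose (m + 3) : F) + ω * ((k + 1).choose (m + 3) : F) := by
  rw [PP_zB, dotProduct_add, dotProduct_smul, ax_PP_xl, ax_PP_xl, smul_eq_mul]

theorem ax_zB_low (ω : F) {k : ℕ} (h : k ≤ m + 1) : ax m F ⬝ᵥ PP (zB m ω) k = 0 := by
  rw [ax_zB, Nat.choose_eq_zero_of_lt (by omega), Nat.choose_eq_zero_of_lt (by omega)]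
  simp

theorem ax_zB_two (ω : F) : ax m F ⬝ᵥ PP (zB m ω) (m + 2) = ω := by
  rw [ax_zB, Nat.choose_eq_zero_of_lt (by omega), Nat.choose_self]
  simp

theorem ax_zB_three (ω : F) : ax m F ⬝ᵥ PP (zB m ω) (m + 3) = 1 + ((m + 4 : ℕ) : F) * ω := by
  rw [ax_zB, Nat.choose_self, Nat.choose_succ_self_right]
  push_cast; ring

theorem ax_inv_zB (ω : F) : ax m F ⬝ᵥ (((UU m F)⁻¹ : GL (Fin (m + 4)) F).1 *ᵥ zB m ω) = (-1) ^ (m + 3) := by
  rw [zB, mulVec_add, mulVec_smul, ax_inv_PP, dotProduct_add, dotProduct_smul, ax_inv_xl, ax_xl, smul_zero, add_zero]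

theorem zB_last (ω : F) : zB m ω (Fin.last (m + 3)) = 1 + ω := by
  rw [zB, Pi.add_apply, Pi.smul_apply, PP_one, Pi.add_apply, shiftN_mulVec, dif_neg (by simp)]
  simp [xl]

theorem xl_ok : xl m F (Fin.last (m + 3)) = 1 := by simp [xl]

variable {M : Subgroup (GL (Fin (m + 4)) F)}

theorem rootIn_of_univ {z : Fin (m + 4) → F} {a : ℕ} (h : ∀ c : F, c ∈ SS M z a) :
    RootIn M (PP z a) (ax m F) := by
  refine ⟨?_, fun c => (h c).2⟩
  have := (h 1).1
  rwa [one_smul] at this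

theorem univ_up (hU : UU m F ∈ M) {z : Fin (m + 4) → F}
    (hσ : ax m F ⬝ᵥ (((UU m F)⁻¹ : GL (Fin (m + 4)) F).1 *ᵥ z) = (-1) ^ (m + 3)) {top : ℕ}
    (hz : ∀ k ≤ top, ax m F ⬝ᵥ PP z k = 0) (h : ∀ c : F, c ∈ SS M z 0) :
    ∀ a ≤ top, ∀ c : F, c ∈ SS M z a := by
  intro a
  induction a with
  | zero => intro _; exact h
  | succ a ih =>
    intro ha c
    have := SS_up hU hσ (hz _ ha) (ih (by omega) c) (h 1)
    rwa [mul_one] at this

theorem fullA (hU : UU m F ∈ M) (h : ∀ c : F, c ∈ SS M (xl m F) 0) : FullAxis M (ax m F) :=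
  fullAxis_of_centres fun v hv => hyperplane (fun k hk =>
    mem_centres.2 (rootIn_of_univ (univ_up hU ax_inv_xl (fun k h => ax_PP_low h) h k hk))) hv

/-- Evaluation at a point. -/
def evalVec (m : ℕ) {F : Type*} [Field F] (t : F) : Fin (m + 4) → F := fun i => t ^ (m + 3 - i.val)

theorem evalVec_step (t : F) (z : Fin (m + 4) → F) :
    evalVec m t ⬝ᵥ ((UU m F : Matrix (Fin (m + 4)) (Fin (m + 4)) F) *ᵥ z) =
      (t + 1) * (evalVec m t ⬝ᵥ z) - t ^ (m + 4) * (ax m F ⬝ᵥ z) := by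
  have e : evalVec m t ᵥ* shiftN m F = t • evalVec m t - t ^ (m + 4) • ax m F := by
    funext j
    simp only [Matrix.vecMul, dotProduct, shiftN, Matrix.of_apply, mul_ite, mul_one, mul_zero, Pi.sub_apply,
      Pi.smul_apply, smul_eq_mul, ax, evalVec]
    by_cases hj : j.val = 0
    · rw [Finset.sum_eq_zero fun i _ => if_neg (by omega), show j = 0 from Fin.ext hj, Pi.single_eq_same]
      simp [← pow_succ']
    · have hj' : j ≠ 0 := fun e => hj (by rw [e]; rfl)
      rw [Pi.single_eq_of_ne hj', Finset.sum_eq_single (⟨j.val - 1, by omega⟩ : Fin (m + 4))]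
      · rw [if_pos (by simp; omega)]
        simp only [mul_zero, sub_zero]
        rw [← pow_succ']
        congr 1
        have := j.isLt
        omega
      · intro b _ hb
        rw [if_neg fun e => hb (Fin.ext (by simp; omega))]
      · simp
  rw [coe_UU, add_mulVec, one_mulVec, dotProduct_add, dotProduct_mulVec _ (shiftN m F), e, sub_dotProduct, smul_dotProduct,
    smul_dotProduct, smul_eq_mul, smul_eq_mul]
  ring

theorem fullB (hU : UU m F ∈ M) {ω : F} (hω : ω ≠ 0) (hω1 : 1 + ω ≠ 0) (hc : 1 + ((m + 4 : ℕ) : F) * ω ≠ 0)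
    (h : ∀ c : F, c ∈ SS M (zB m ω) 0) : FullAxis M (ax m F) := by
  set μ := -ω⁻¹ with hμ
  set t := μ - 1 with ht
  have ht0 : t ≠ 0 := by
    intro e
    apply hω1
    rw [ht, hμ] at e
    field_simp at e
    linear_combination -e
  set W := centres M (ax m F)
  have hroot := univ_up hU (ax_inv_zB ω) (top := m + 1) (fun k h => ax_zB_low ω h) h
  have hgen : ∀ k ≤ m + 1, PP (zB m ω) k ∈ W := fun k hk => mem_centres.2 (rootIn_of_univ (hroot k hk))
  set x := xl m F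
  set ψ := evalVec m t with hψ
  have hψx : ψ ⬝ᵥ x = 1 := by simp [hψ, x, xl, evalVec, dotProduct_single]
  have hψP : ∀ k ≤ m + 3, ψ ⬝ᵥ PP x k = μ ^ k := by
    intro k
    induction k with
    | zero => intro _; rw [PP_zero, hψx, pow_zero]
    | succ k ih =>
      intro hk
      rw [PP_succ, hψ, evalVec_step, ← hψ, ih (by omega), ax_PP_low (by omega), ht, sub_add_cancel, pow_succ']
      ring
  have hωμ : 1 + ω * μ = 0 := by rw [hμ, mul_neg, mul_inv_cancel₀ hω]; ring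
  have hred : ∀ k ≤ m + 2, PP x k - μ ^ k • x ∈ W := by
    intro k
    induction k with
    | zero => intro _; rw [PP_zero, pow_zero, one_smul, sub_self]; exact W.zero_mem
    | succ k ih =>
      intro hk
      have e : PP x (k + 1) - μ ^ (k + 1) • x = μ • (PP x k - μ ^ k • x) + ω⁻¹ • PP (zB m ω) k := by
        rw [PP_zB, smul_add, smul_smul, inv_mul_cancel₀ hω, one_smul, hμ, smul_sub, smul_smul, ← pow_succ', neg_smul]
        abel
      rw [e]
      exact W.add_mem (W.smul_mem _ (ih (by omega))) (W.smul_mem _ (hgen k (by omega)))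
  let L : (Fin (m + 4) → F) →ₗ[F] (Fin (m + 4) → F) :=
    { toFun := fun z => z - (ψ ⬝ᵥ z) • x
      map_add' := fun a b => by rw [dotProduct_add, add_smul]; abel
      map_smul' := fun c a => by rw [dotProduct_smul, smul_sub, smul_smul, RingHom.id_apply, smul_eq_mul] }
  have hL : ∀ z, ax m F ⬝ᵥ z = 0 → z - (ψ ⬝ᵥ z) • x ∈ W := fun z hz =>
    hyperplane (W := W.comap L) (fun k hk => by
      show PP x k - (ψ ⬝ᵥ PP x k) • x ∈ W
      rw [hψP k (by omega)]; exact hred k hk) hz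
  -- one more centre
  set c := 1 + ((m + 4 : ℕ) : F) * ω with hcdef
  set σ : F := (-1) ^ (m + 3) with hσdef
  have hσ0 : σ ≠ 0 := pow_ne_zero _ (neg_ne_zero.2 one_ne_zero)
  set z0 := zB m ω
  set zm := ((UU m F)⁻¹ : GL (Fin (m + 4)) F).1 *ᵥ z0
  have hr : RootIn M z0 (ax m F) := by
    have := rootIn_of_univ h
    rwa [PP_zero] at this
  have hm := hr.conj (M.inv_mem hU)
  rw [inv_inv] at hm
  set a := ax m F ᵥ* (UU m F : Matrix (Fin (m + 4)) (Fin (m + 4)) F) with ha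
  set a1 := ax m F ᵥ* (((UU m F)⁻¹ : GL (Fin (m + 4)) F) : Matrix (Fin (m + 4)) (Fin (m + 4)) F) with ha1
  have hT : tv (PP z0 (m + 2)) a1 ∈ M := by
    have := tv_mem_conj hU (hroot (m + 1) le_rfl 1).2
    rwa [one_smul, ← PP_succ] at this
  set ρ := -ω / (c * σ) with hρ
  set g := tv (ρ • zm) a
  have hg : g ∈ M := hm.2 ρ
  have kzm : a ⬝ᵥ (ρ • zm) = 0 := by rw [dotProduct_smul, hm.1, smul_zero]
  set w := PP z0 (m + 2) + (a ⬝ᵥ PP z0 (m + 2)) • ρ • zm with hw
  set b := a1 + (a1 ⬝ᵥ -(ρ • zm)) • a with hb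
  have hTw : tv w b ∈ M := by
    have := tv_mem_conj hg hT
    rwa [tv_mulVec kzm, tv_inv, vecMul_tv (by rw [dotProduct_neg, kzm, neg_zero])] at this
  have e1 : a ⬝ᵥ PP z0 (m + 2) = c := by
    rw [ha, ← dotProduct_mulVec, ← PP_succ]; exact ax_zB_three ω
  have e2 : ax m F ⬝ᵥ zm = σ := ax_inv_zB ω
  have hw0 : ax m F ⬝ᵥ w = 0 := by
    rw [hw, dotProduct_add, dotProduct_smul, dotProduct_smul, ax_zB_two, e1, e2, hρ]
    simp only [smul_eq_mul]
    field_simp
    ring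
  have hbz : b ⬝ᵥ z0 = σ := by
    rw [hb, add_dotProduct, smul_dotProduct, ha1, ← dotProduct_mulVec, e2, ha, ← dotProduct_mulVec]
    have : ax m F ⬝ᵥ ((UU m F : Matrix (Fin (m + 4)) (Fin (m + 4)) F) *ᵥ z0) = 0 := by
      rw [show (UU m F : Matrix (Fin (m + 4)) (Fin (m + 4)) F) *ᵥ z0 = PP z0 1 by rw [PP, pow_one]]
      exact ax_zB_low ω (by omega)
    rw [← dotProduct_mulVec _ (UU m F : Matrix (Fin (m + 4)) (Fin (m + 4)) F), this, smul_zero, add_zero]
  have hbw : b ⬝ᵥ w = 0 := by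
    have k1 : a1 ⬝ᵥ PP z0 (m + 2) = 0 := by
      rw [ha1, PP_succ, dot_conj]; exact ax_zB_low ω le_rfl
    rw [hb, hw, add_dotProduct, smul_dotProduct, dotProduct_add a, dotProduct_smul _ a, kzm, smul_zero, add_zero, dotProduct_add,
      dotProduct_smul, k1, e1, dotProduct_neg]
    simp only [smul_eq_mul]
    ring
  have hwW : w ∈ W := mem_centres.2 (hr.rule_axis hbw hTw hw0 (by rw [hbz]; exact hσ0))
  have hψz : ∀ k ≤ m + 2, ψ ⬝ᵥ PP z0 k = 0 := by
    intro k hk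
    rw [PP_zB, dotProduct_add, dotProduct_smul, hψP k (by omega), hψP (k + 1) (by omega), smul_eq_mul, pow_succ']
    linear_combination μ ^ k * hωμ
  have hψm : μ * (ψ ⬝ᵥ zm) = t ^ (m + 4) * σ := by
    have := evalVec_step t zm
    rw [← hψ, e2, mulVec_mulVec, Units.mul_inv, one_mulVec, ht, sub_add_cancel] at this
    have h0 := hψz 0 (by omega)
    rw [PP_zero] at h0
    rw [h0] at this
    linear_combination -this
  have hψw : ψ ⬝ᵥ w ≠ 0 := by
    rw [hw, dotProduct_add, hψz _ le_rfl, zero_add, dotProduct_smul, dotProduct_smul, e1, smul_eq_mul, smul_eq_mul]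
    refine mul_ne_zero hc (mul_ne_zero (div_ne_zero (neg_ne_zero.2 hω) (mul_ne_zero hc hσ0)) ?_)
    intro e
    rw [e, mul_zero] at hψm
    exact mul_ne_zero (pow_ne_zero _ ht0) hσ0 hψm.symm
  have hxW : x ∈ W := by
    have := W.smul_mem (ψ ⬝ᵥ w)⁻¹ (W.sub_mem hwW (hL w hw0))
    rwa [sub_sub_cancel, smul_smul, inv_mul_cancel₀ hψw, one_smul] at this
  refine fullAxis_of_centres fun v hv => ?_
  have := W.add_mem (hL v hv) (W.smul_mem (ψ ⬝ᵥ v) hxW)
  rwa [sub_add_cancel] at this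

end CfsgLib.RegPair.Higher
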