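import Cfsg.Agent.RegPair.HigherBase

/-!
# Transvections in the group generated by two conjugate regular unipotent elements

If `r` is a transvection with centre `x₀` and axis the first coordinate, a subgroup containing `U` and `r U r⁻¹`
contains a commutator which is a transvection, and from it transvections with centres along the orbit of `x₀`.
-/

set_option autoImplicit false

namespace CfsgLib.RegPair.Higher

open Matrix CfsgLib.MaxSub

variable {F : Type*} [Field F] {m : ℕ}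

/-- The axis of the transvection conjugated by the powers of `U`. -/
def AA (m : ℕ) (F : Type*) [Field F] (i : ℕ) : Fin (m + 4) → F :=
  ax m F ᵥ* (((UU m F ^ i)⁻¹ : GL (Fin (m + 4)) F) : Matrix (Fin (m + 4)) (Fin (m + 4)) F)

theorem AA_zero : AA m F 0 = ax m F := by simp [AA]

theorem AA_dot (x0 : Fin (m + 4) → F) (i d : ℕ) : AA m F i ⬝ᵥ PP x0 (i + d) = ax m F ⬝ᵥ PP x0 d := by
  rw [AA, PP_add, PP, dot_conj]

theorem conj_pow (x0 : Fin (m + 4) → F) (i : ℕ) :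
    UU m F ^ i * tv x0 (ax m F) * (UU m F ^ i)⁻¹ = tv (PP x0 i) (AA m F i) := conj_tv _ _ _

theorem AA_dot_succ (x0 : Fin (m + 4) → F) (j : ℕ) :
    AA m F (j + 1) ⬝ᵥ PP x0 j = ax m F ⬝ᵥ (((UU m F)⁻¹ : GL (Fin (m + 4)) F).1 *ᵥ x0) := by
  rw [AA, pow_succ', _root_.mul_inv_rev, Units.val_mul, ← dotProduct_mulVec, ← mulVec_mulVec,
    show PP x0 j = ((UU m F ^ j : GL (Fin (m + 4)) F) : Matrix (Fin (m + 4)) (Fin (m + 4)) F) *ᵥ x0 from rfl,
    mulVec_mulVec, mulVec_mulVec, ← Units.val_mul, ← Units.val_mul]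
  congr 3
  rw [← _root_.mul_inv_rev]
  group

variable {H : Subgroup (GL (Fin (m + 4)) F)} {x0 : Fin (m + 4) → F}

theorem pair_mem (hU : UU m F ∈ H) (hV : tv x0 (ax m F) * UU m F * (tv x0 (ax m F))⁻¹ ∈ H) :
    tv (PP x0 1) (AA m F 1) * (tv x0 (ax m F))⁻¹ ∈ H := by
  have e : tv (PP x0 1) (AA m F 1) * (tv x0 (ax m F))⁻¹ = UU m F * (tv x0 (ax m F) * UU m F * (tv x0 (ax m F))⁻¹)⁻¹ := by
    rw [← conj_pow, pow_one]; group
  rw [e]; exact H.mul_mem hU (H.inv_mem hV)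

/-- A commutator which is a transvection. -/
theorem triple (hU : UU m F ∈ H) (hV : tv x0 (ax m F) * UU m F * (tv x0 (ax m F))⁻¹ ∈ H) {ε : F}
    (hε : ax m F ⬝ᵥ (((UU m F)⁻¹ : GL (Fin (m + 4)) F).1 *ᵥ x0) = ε) (h0 : ax m F ⬝ᵥ x0 = 0)
    (h1 : ax m F ⬝ᵥ PP x0 1 = 0) (h2 : ax m F ⬝ᵥ PP x0 2 = 0) :
    InX H ((ε * ε) • PP x0 2) := by
  refine ⟨by rw [dotProduct_smul, h2, smul_zero], ?_⟩
  set v1 := PP x0 1 with hv1
  set v2 := PP x0 2 with hv2
  set a0 := ax m F with ha0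
  set a1 := AA m F 1 with ha1
  set a2 := AA m F 2 with ha2
  have d01 : a0 ⬝ᵥ v1 = 0 := h1
  have d02 : a0 ⬝ᵥ v2 = 0 := h2
  have d11 : a1 ⬝ᵥ v1 = 0 := by rw [ha1, hv1, AA_dot x0 1 0, PP_zero]; exact h0
  have d12 : a1 ⬝ᵥ v2 = 0 := by rw [ha1, hv2, AA_dot x0 1 1]; exact h1
  have d22 : a2 ⬝ᵥ v2 = 0 := by rw [ha2, hv2, AA_dot x0 2 0, PP_zero]; exact h0
  have d10 : a1 ⬝ᵥ x0 = ε := by
    have := AA_dot_succ x0 0
    rw [PP_zero, hε] at this; exact this
  have d21 : a2 ⬝ᵥ v1 = ε := by rw [ha2, hv1, AA_dot_succ x0 1, hε]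
  set A := tv v1 a1 * (tv x0 a0)⁻¹ with hAdef
  have hA : A ∈ H := pair_mem hU hV
  set B := tv v2 a2 * (tv v1 a1)⁻¹ with hBdef
  have hB : B ∈ H := by
    have : B = UU m F * A * (UU m F)⁻¹ := by
      rw [hBdef, hAdef, hv2, ha2, hv1, ha1, ← conj_pow x0 2, ← conj_pow x0 1, pow_one, pow_two]
      simp only [← ha0]
      group
    rw [this]; exact H.mul_mem (H.mul_mem hU hA) (H.inv_mem hU)
  -- images under conjugation by `A`
  set e2 := a2 ⬝ᵥ x0
  have eA : ∀ v a, a0 ⬝ᵥ v = 0 → a1 ⬝ᵥ v = 0 → A * tv v a * A⁻¹ =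
      tv v (a + (a ⬝ᵥ x0) • a0 + ((a + (a ⬝ᵥ x0) • a0) ⬝ᵥ -v1) • a1) := by
    intro v a k0 k1
    rw [hAdef, conj_tv, _root_.mul_inv_rev, inv_inv, Units.val_mul, Units.val_mul, tv_inv, ← mulVec_mulVec,
      tv_mulVec (v := -x0) (a := a0) (by rw [dotProduct_neg, h0, neg_zero]), k0, zero_smul, add_zero, tv_mulVec d11, k1, zero_smul, add_zero,
      ← vecMul_vecMul, vecMul_tv h0, tv_inv, vecMul_tv (v := -v1) (a := a1) (by rw [dotProduct_neg, d11, neg_zero])]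
  set b2 := e2 • a0 + (-ε) • a1 with hb2
  have eA2 : A * tv v2 a2 * A⁻¹ = tv v2 (a2 + b2) := by
    rw [eA v2 a2 d02 d12, hb2]
    congr 1
    rw [add_dotProduct, smul_dotProduct, dotProduct_neg, dotProduct_neg, d21, d01]
    simp [add_assoc]; rfl
  have eA1 : A * tv v1 a1 * A⁻¹ = tv v1 (a1 + ε • a0) := by
    rw [eA v1 a1 d01 d11, d10]
    congr 1
    rw [add_dotProduct, smul_dotProduct, dotProduct_neg, dotProduct_neg, d11, d01]
    simp
  set C := A * B * A⁻¹ * B⁻¹ with hCdef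
  have hC : C ∈ H := H.mul_mem (H.mul_mem (H.mul_mem hA hB) (H.inv_mem hA)) (H.inv_mem hB)
  set w := (-ε) • v1 + (-(ε * ε)) • v2 with hw
  have kb : b2 ⬝ᵥ v2 = 0 := by rw [hb2, add_dotProduct, smul_dotProduct, smul_dotProduct, d02, d12]; simp
  have kw : a0 ⬝ᵥ w = 0 := by rw [hw, dotProduct_add, dotProduct_smul, dotProduct_smul, d01, d02]; simp
  have eC : C = tv v2 b2 * tv w a0 := by
    have s1 : (tv v1 (a1 + ε • a0))⁻¹ * tv v1 a1 = tv ((-ε) • v1) a0 := by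
      rw [tv_inv, ← tv_neg_right, tv_mul_right (by rw [neg_dotProduct, add_dotProduct, smul_dotProduct, d11, d01]; simp) d11,
        ← tv_smul_right]
      congr 1
      simp
    have s2 : tv v2 a2 * tv ((-ε) • v1) a0 * (tv v2 a2)⁻¹ = tv w a0 := by
      rw [conj_tv, tv_inv, tv_mulVec d22, vecMul_tv (by rw [dotProduct_neg, d22, neg_zero]), dotProduct_neg, d02,
        neg_zero, zero_smul, add_zero, dotProduct_smul, d21, hw]
      congr 2
      simp
    calc C = (A * tv v2 a2 * A⁻¹) * ((A * tv v1 a1 * A⁻¹)⁻¹ * tv v1 a1) * (tv v2 a2)⁻¹ := by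
          rw [hCdef, hBdef]; group
      _ = tv v2 (a2 + b2) * tv ((-ε) • v1) a0 * (tv v2 a2)⁻¹ := by rw [eA2, eA1, s1]
      _ = tv v2 b2 * (tv v2 a2 * tv ((-ε) • v1) a0 * (tv v2 a2)⁻¹) := by
          rw [add_comm a2 b2, ← tv_mul_right kb d22]; group
      _ = _ := by rw [s2]
  have eC' : ∀ v a, a0 ⬝ᵥ v = 0 → a ⬝ᵥ w = 0 → a ⬝ᵥ v2 = 0 → C * tv v a * C⁻¹ = tv (v + (b2 ⬝ᵥ v) • v2) a := by
    intro v a k0 k1 k2
    rw [eC, conj_tv, _root_.mul_inv_rev, Units.val_mul, Units.val_mul, ← mulVec_mulVec, tv_mulVec kw, k0, zero_smul,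
      add_zero, tv_mulVec kb, ← vecMul_vecMul, tv_inv, tv_inv, vecMul_tv (v := -w) (a := a0) (by rw [dotProduct_neg, kw, neg_zero]),
      dotProduct_neg, k1, neg_zero, zero_smul, add_zero, vecMul_tv (v := -v2) (a := b2) (by rw [dotProduct_neg, kb, neg_zero]), dotProduct_neg,
      k2, neg_zero, zero_smul, add_zero]
  have eC1 : C * tv v1 a1 * C⁻¹ = tv v1 a1 := by
    rw [eC' v1 a1 d01 (by rw [hw, dotProduct_add, dotProduct_smul, dotProduct_smul, d11, d12]; simp) d12,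
      show b2 ⬝ᵥ v1 = 0 by rw [hb2, add_dotProduct, smul_dotProduct, smul_dotProduct, d01, d11]; simp,
      zero_smul, add_zero]
  have eC0 : C * tv x0 a0 * C⁻¹ = tv (x0 + (-(ε * ε)) • v2) a0 := by
    rw [eC' x0 a0 h0 kw d02]
    congr 3
    rw [hb2, add_dotProduct, smul_dotProduct, smul_dotProduct, d10, h0]
    simp
  have eT : A⁻¹ * (C * A * C⁻¹) = tv ((ε * ε) • v2) a0 := by
    have k2 : a0 ⬝ᵥ (x0 + (-(ε * ε)) • v2) = 0 := by rw [dotProduct_add, dotProduct_smul, h0, d02]; simp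
    calc A⁻¹ * (C * A * C⁻¹) = A⁻¹ * ((C * tv v1 a1 * C⁻¹) * (C * tv x0 a0 * C⁻¹)⁻¹) := by rw [hAdef]; group
      _ = tv x0 a0 * (tv (x0 + (-(ε * ε)) • v2) a0)⁻¹ := by rw [eC1, eC0, hAdef]; group
      _ = _ := by
        rw [tv_inv, tv_mul_left h0 (by rw [dotProduct_neg, k2, neg_zero])]
        congr 1
        rw [neg_smul]; abel
  rw [← eT]
  exact H.mul_mem (H.inv_mem hA) (H.mul_mem (H.mul_mem hC hA) (H.inv_mem hC))

/-- Moving the centre along the orbit. -/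
theorem next (hU : UU m F ∈ H) (hV : tv x0 (ax m F) * UU m F * (tv x0 (ax m F))⁻¹ ∈ H) {ε : F}
    (hε : ax m F ⬝ᵥ (((UU m F)⁻¹ : GL (Fin (m + 4)) F).1 *ᵥ x0) = ε) (h0 : ax m F ⬝ᵥ x0 = 0)
    (h1 : ax m F ⬝ᵥ PP x0 1 = 0) {w : Fin (m + 4) → F} (hw : InX H w)
    (hw1 : ax m F ⬝ᵥ ((UU m F : Matrix (Fin (m + 4)) (Fin (m + 4)) F) *ᵥ w) = 0) :
    InX H (ε • ((UU m F : Matrix (Fin (m + 4)) (Fin (m + 4)) F) *ᵥ w)) := by
  refine ⟨by rw [dotProduct_smul, hw1, smul_zero], ?_⟩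
  obtain ⟨hw0, hT⟩ := hw
  set a0 := ax m F
  set u := ((UU m F)⁻¹ : GL (Fin (m + 4)) F).1 *ᵥ x0
  set a := a0 ᵥ* (UU m F : Matrix (Fin (m + 4)) (Fin (m + 4)) F) with ha
  have hPc : (UU m F)⁻¹ * tv x0 a0 * UU m F = tv u a := by
    have := conj_tv (UU m F)⁻¹ x0 a0
    rwa [inv_inv] at this
  have hP : tv x0 a0 * (tv u a)⁻¹ ∈ H := by
    have e : tv x0 a0 * (tv u a)⁻¹ = (UU m F)⁻¹ * (tv (PP x0 1) (AA m F 1) * (tv x0 a0)⁻¹) * UU m F := by
      rw [← hPc, ← conj_pow, pow_one]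
      show _ = (UU m F)⁻¹ * (UU m F * tv x0 a0 * (UU m F)⁻¹ * (tv x0 a0)⁻¹) * UU m F
      group
    rw [e]; exact H.mul_mem (H.mul_mem (H.inv_mem hU) (pair_mem hU hV)) hU
  have kau : a ⬝ᵥ u = 0 := by rw [ha, ← dotProduct_mulVec, mulVec_mulVec, Units.mul_inv, one_mulVec]; exact h0
  have kaw : a ⬝ᵥ w = 0 := by rw [ha, ← dotProduct_mulVec]; exact hw1
  have kax : a ⬝ᵥ x0 = 0 := by
    rw [ha, ← dotProduct_mulVec]
    have := h1
    rwa [PP, pow_one] at this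
  set T := tv w a0
  have eT0 : T * tv x0 a0 * T⁻¹ = tv x0 a0 := by
    rw [conj_tv, tv_mulVec hw0, h0, zero_smul, add_zero, tv_inv, vecMul_tv (by rw [dotProduct_neg, hw0, neg_zero]),
      dotProduct_neg, hw0, neg_zero, zero_smul, add_zero]
  have eTu : T * tv u a * T⁻¹ = tv (u + ε • w) a := by
    rw [conj_tv, tv_mulVec hw0, hε, tv_inv, vecMul_tv (by rw [dotProduct_neg, hw0, neg_zero]),
      dotProduct_neg, kaw, neg_zero, zero_smul, add_zero]
  have key : (T * (tv x0 a0 * (tv u a)⁻¹) * T⁻¹ * (tv x0 a0 * (tv u a)⁻¹)⁻¹)⁻¹ = tv (ε • w) a := by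
    have k1 : a ⬝ᵥ (ε • w) = 0 := by rw [dotProduct_smul, kaw, smul_zero]
    calc (T * (tv x0 a0 * (tv u a)⁻¹) * T⁻¹ * (tv x0 a0 * (tv u a)⁻¹)⁻¹)⁻¹
        = ((T * tv x0 a0 * T⁻¹) * ((T * tv u a * T⁻¹)⁻¹ * tv u a) * (tv x0 a0)⁻¹)⁻¹ := by group
      _ = (tv x0 a0 * tv (-(ε • w)) a * (tv x0 a0)⁻¹)⁻¹ := by
        rw [eT0, eTu, tv_inv, tv_mul_left (by rw [dotProduct_neg, dotProduct_add, kau, k1]; simp) kau]
        congr 5
        abel
      _ = _ := by
        rw [conj_tv, tv_mulVec h0, dotProduct_neg, dotProduct_smul, hw0, smul_zero, neg_zero, zero_smul, add_zero,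
          tv_inv x0, vecMul_tv (by rw [dotProduct_neg, h0, neg_zero]), dotProduct_neg, kax, neg_zero, zero_smul, add_zero,
          tv_inv, neg_neg]
  have hk : tv (ε • w) a ∈ H := by
    rw [← key]
    exact H.inv_mem (H.mul_mem (H.mul_mem (H.mul_mem hT hP) (H.inv_mem hT)) (H.inv_mem hP))
  have := tv_mem_conj hU hk
  rwa [mulVec_smul, ha, vecMul_vecMul, Units.mul_inv, vecMul_one] at this

/-- All the centres reached. -/
theorem lens {z : Fin (m + 4) → F} (s0 : F) (hU : UU m F ∈ H)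
    (hV : tv (s0 • z) (ax m F) * UU m F * (tv (s0 • z) (ax m F))⁻¹ ∈ H)
    (hσ : ax m F ⬝ᵥ (((UU m F)⁻¹ : GL (Fin (m + 4)) F).1 *ᵥ z) = (-1) ^ (m + 3))
    (top : ℕ) (hz : ∀ k ≤ top, ax m F ⬝ᵥ PP z k = 0) {k : ℕ} (hk : 2 ≤ k) (hkt : k ≤ top) :
    s0 ^ (k + 1) ∈ SS H z k := by
  have hε : ax m F ⬝ᵥ (((UU m F)⁻¹ : GL (Fin (m + 4)) F).1 *ᵥ (s0 • z)) = s0 * (-1) ^ (m + 3) := by
    rw [mulVec_smul, dotProduct_smul, hσ, smul_eq_mul]
  have hzero : ∀ k ≤ top, ax m F ⬝ᵥ PP (s0 • z) k = 0 := fun k h => by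
    rw [PP_smul, dotProduct_smul, hz k h, smul_zero]
  have h00 : ax m F ⬝ᵥ (s0 • z) = 0 := by
    have := hzero 0 (by omega)
    rwa [PP_zero] at this
  induction k, hk using Nat.le_induction with
  | base =>
    have h := triple hU hV hε h00 (hzero 1 (by omega)) (hzero 2 hkt)
    rw [PP_smul, smul_smul] at h
    show InX H (s0 ^ (2 + 1) • PP z 2)
    rwa [show s0 * (-1) ^ (m + 3) * (s0 * (-1) ^ (m + 3)) * s0 = s0 ^ (2 + 1) * ((-1 : F) ^ (m + 3)) ^ 2 by ring,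
      ← pow_mul, mul_comm (m + 3), pow_mul, neg_one_sq, one_pow, mul_one] at h
  | succ k hk ih =>
    have h := next hU hV hε h00 (hzero 1 (by omega)) (ih (by omega))
      (by rw [mulVec_smul, ← PP_succ, dotProduct_smul, hz (k + 1) hkt, smul_zero])
    rw [mulVec_smul, ← PP_succ, smul_smul] at h
    have h' : s0 * (-1) ^ (m + 3) * s0 ^ (k + 1) ∈ SS H z (k + 1) := h
    have := SS_sign h' (m + 3)
    rwa [show (-1) ^ (m + 3) * (s0 * (-1) ^ (m + 3) * s0 ^ (k + 1)) = s0 ^ (k + 1 + 1) * ((-1 : F) ^ (m + 3)) ^ 2 by ring,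
      ← pow_mul, mul_comm (m + 3), pow_mul, neg_one_sq, one_pow, mul_one] at this

/-- A subspace invariant under both elements. -/
theorem irreducible (hU : UU m F ∈ H) (hV : tv x0 (ax m F) * UU m F * (tv x0 (ax m F))⁻¹ ∈ H)
    (h0 : ax m F ⬝ᵥ x0 = 0) (h1 : ax m F ⬝ᵥ PP x0 1 = 0) (hc : x0 (Fin.last (m + 3)) ≠ 0) : MaxSub.Irreducible H := by
  intro W hW
  by_cases hbot : W = ⊥
  · exact Or.inl hbot
  right
  have hN : ∀ w ∈ W, shiftN m F *ᵥ w ∈ W := fun w hw => by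
    have := W.sub_mem (hW _ hU w hw) hw
    rwa [coe_UU, add_mulVec, one_mulVec, add_sub_cancel_left] at this
  have low : ∀ k : ℕ, ∀ z ∈ W, ∀ hk : k < m + 4, z ⟨k, hk⟩ ≠ 0 → (∀ i : Fin (m + 4), k < i.val → z i = 0) →
      ∀ i : Fin (m + 4), i.val ≤ k → Pi.single i (1 : F) ∈ W := by
    intro k
    induction k with
    | zero =>
      intro z hz hk hne htop i hi
      have hi0 : i = ⟨0, hk⟩ := Fin.ext (Nat.le_zero.1 hi)
      subst hi0
      have : Pi.single (⟨0, hk⟩ : Fin (m + 4)) (1 : F) = (z ⟨0, hk⟩)⁻¹ • z := by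
        funext j
        by_cases hj : j = ⟨0, hk⟩
        · subst hj; rw [Pi.single_eq_same, Pi.smul_apply, smul_eq_mul, inv_mul_cancel₀ hne]
        · rw [Pi.single_eq_of_ne hj, Pi.smul_apply, htop j (by
            rcases Nat.eq_zero_or_pos j.val with h | h
            · exact absurd (Fin.ext h) hj
            · exact h), smul_zero]
      rw [this]; exact W.smul_mem _ hz
    | succ k ih =>
      intro z hz hk hne htop
      have hlow := ih _ (hN z hz) (by omega) (by rw [shiftN_mulVec, dif_pos hk]; exact hne) (fun i hi => by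
        rw [shiftN_mulVec]
        split_ifs with h
        · exact htop _ (by simp; omega)
        · rfl)
      intro i hi
      rcases Nat.lt_or_ge i.val (k + 1) with h | h
      · exact hlow i (by omega)
      have hik : i = ⟨k + 1, hk⟩ := Fin.ext (by simp; omega)
      subst hik
      have hsum := pi_eq_sum_univ' z
      have hrest : z - z ⟨k + 1, hk⟩ • Pi.single (⟨k + 1, hk⟩ : Fin (m + 4)) (1 : F) ∈ W := by
        have e : z - z ⟨k + 1, hk⟩ • Pi.single (⟨k + 1, hk⟩ : Fin (m + 4)) (1 : F) =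
            ∑ j ∈ Finset.univ.erase (⟨k + 1, hk⟩ : Fin (m + 4)), z j • Pi.single j (1 : F) := by
          conv_lhs => rw [hsum]
          rw [← Finset.add_sum_erase _ _ (Finset.mem_univ (⟨k + 1, hk⟩ : Fin (m + 4)))]
          abel_nf
          simp [Pi.single_apply, Finset.sum_apply]
        rw [e]
        refine W.sum_mem fun j hj => ?_
        rcases Nat.lt_or_ge (k + 1) j.val with hj' | hj'
        · rw [htop j hj', zero_smul]; exact W.zero_mem
        · refine W.smul_mem _ (hlow j ?_)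
          have : j.val ≠ k + 1 := fun e => Finset.ne_of_mem_erase hj (Fin.ext e)
          omega
      have := W.smul_mem (z ⟨k + 1, hk⟩)⁻¹ (W.sub_mem hz hrest)
      rwa [sub_sub_cancel, smul_smul, inv_mul_cancel₀ hne, one_smul] at this
  obtain ⟨w, hw, hw0⟩ := W.exists_mem_ne_zero_of_ne_bot hbot
  obtain ⟨i0, hi0⟩ := Function.ne_iff.1 hw0
  classical
  set S := Finset.univ.filter fun i : Fin (m + 4) => w i ≠ 0
  have hS : S.Nonempty := ⟨i0, by simpa [S] using hi0⟩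
  set k := S.max' hS
  have hk : w k ≠ 0 := (Finset.mem_filter.1 (S.max'_mem hS)).2
  have he0 : Pi.single (0 : Fin (m + 4)) (1 : F) ∈ W := low k.val w hw k.isLt hk (fun i hi => by
    by_contra h
    exact absurd (Fin.le_def.1 (S.le_max' i (by simp [S, h]))) (not_le.2 hi)) 0 (Nat.zero_le _)
  set e0 : Fin (m + 4) → F := Pi.single 0 1
  set e1 : Fin (m + 4) → F := Pi.single ⟨1, by omega⟩ 1
  have hax : ax m F ⬝ᵥ e0 = 1 := by rw [ax_dot]; simp [e0]
  have hax1 : ax m F ⬝ᵥ e1 = 0 := by rw [ax_dot]; exact Pi.single_eq_of_ne (fun e => by simp [Fin.ext_iff] at e) _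
  have hUe0 : (UU m F : Matrix (Fin (m + 4)) (Fin (m + 4)) F) *ᵥ e0 = e0 := by
    rw [coe_UU, add_mulVec, one_mulVec]
    refine add_eq_left.2 (funext fun i => ?_)
    rw [shiftN_mulVec]
    split_ifs with h
    · exact Pi.single_eq_of_ne (fun e => absurd (congrArg Fin.val e) (Nat.succ_ne_zero _)) _
    · rfl
  have hUe1 : (UU m F : Matrix (Fin (m + 4)) (Fin (m + 4)) F) *ᵥ e1 = e1 + e0 := by
    rw [coe_UU, add_mulVec, one_mulVec]
    congr 1
    funext i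
    rw [shiftN_mulVec]
    split_ifs with h
    · simp only [e1, e0, Pi.single_apply, Fin.ext_iff, Fin.val_zero]
      split_ifs <;> first | rfl | omega
    · simp only [e0, Pi.single_apply, Fin.ext_iff, Fin.val_zero]
      rw [if_neg]
      omega
  have hV' : ∀ z : Fin (m + 4) → F, ((tv x0 (ax m F) * UU m F * (tv x0 (ax m F))⁻¹ : GL (Fin (m + 4)) F) : Matrix (Fin (m + 4)) (Fin (m + 4)) F) *ᵥ z =
      (tv x0 (ax m F) : Matrix (Fin (m + 4)) (Fin (m + 4)) F) *ᵥ ((UU m F : Matrix (Fin (m + 4)) (Fin (m + 4)) F) *ᵥ (z + (ax m F ⬝ᵥ z) • -x0)) := fun z => by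
    rw [Units.val_mul, Units.val_mul, tv_inv, ← mulVec_mulVec, ← mulVec_mulVec, tv_mulVec (v := -x0) (a := ax m F) (by rw [dotProduct_neg, h0, neg_zero])]
  have hNx : shiftN m F *ᵥ x0 ∈ W := by
    have h := W.sub_mem he0 (hW _ hV e0 he0)
    rw [hV', hax, one_smul, mulVec_add, mulVec_neg, hUe0] at h
    have e : (UU m F : Matrix (Fin (m + 4)) (Fin (m + 4)) F) *ᵥ x0 = PP x0 1 := by rw [PP, pow_one]
    rw [e, tv_mulVec h0, dotProduct_add, dotProduct_neg, hax, h1, neg_zero, add_zero, one_smul, PP_one] at h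
    convert h using 1
    abel
  have hlow2 := low (m + 2) _ hNx (by omega)
    (by rw [shiftN_mulVec, dif_pos (show m + 2 + 1 < m + 4 by omega)]; exact hc)
    (fun i hi => by rw [shiftN_mulVec, dif_neg]; omega)
  have hx : x0 ∈ W := by
    have he1 : e1 ∈ W := hlow2 ⟨1, by omega⟩ (by show 1 ≤ m + 2; omega)
    have h := W.sub_mem (hW _ hV e1 he1) (W.add_mem he1 he0)
    rw [hV', hax1, zero_smul, add_zero, hUe1, tv_mulVec h0, dotProduct_add, hax1, hax, zero_add, one_smul,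
      add_sub_cancel_left] at h
    exact h
  have hall := low (m + 3) x0 hx (by omega) hc (fun i hi => absurd i.isLt (by omega))
  rw [eq_top_iff]
  intro z _
  rw [pi_eq_sum_univ' z]
  exact W.sum_mem fun j _ => W.smul_mem _ (hall j (by omega))

/-- The orbit spans the axis. -/
theorem hyperplane {W : Submodule F (Fin (m + 4) → F)} (h : ∀ k ≤ m + 2, PP (xl m F) k ∈ W)
    {z : Fin (m + 4) → F} (hz : ax m F ⬝ᵥ z = 0) : z ∈ W := by
  have hpow : ∀ a k : ℕ, k + a ≤ m + 2 → (shiftN m F ^ a) *ᵥ PP (xl m F) k ∈ W := by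
    intro a
    induction a with
    | zero => intro k hk; rw [pow_zero, one_mulVec]; exact h k (by omega)
    | succ a ih =>
      intro k hk
      have e : shiftN m F *ᵥ PP (xl m F) k = PP (xl m F) (k + 1) - PP (xl m F) k := by
        rw [PP_succ, coe_UU, add_mulVec, one_mulVec, add_sub_cancel_left]
      rw [pow_succ, ← mulVec_mulVec, e, mulVec_sub]
      exact W.sub_mem (ih (k + 1) (by omega)) (ih k (by omega))
  rw [pi_eq_sum_univ' z]
  refine W.sum_mem fun j _ => ?_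
  by_cases hj : j.val = 0
  · have : j = 0 := Fin.ext hj
    rw [this, ← ax_dot z, hz, zero_smul]; exact W.zero_mem
  refine W.smul_mem _ ?_
  have := hpow (m + 3 - j.val) 0 (by omega)
  rw [PP_zero] at this
  convert this using 1
  funext i
  rw [shiftN_pow_mulVec]
  have := j.isLt
  simp only [xl, Pi.single_apply, Fin.ext_iff, Fin.val_last]
  split_ifs <;> first | rfl | omega

end CfsgLib.RegPair.Higher
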