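import Cfsg.Agent.SLnPres.Basic
import Cfsg.Agent.Linear.Perfect
import Cfsg.Agent.SL2Pres.Exist

/-!
# Two conjugate regular unipotent generators of `SL₃(q)`, `q` even
-/

set_option autoImplicit false

namespace CfsgLib.RegPair

open Matrix CfsgLib.SLnPres
open scoped MatrixGroups

variable {F : Type*} [Field F]

theorem third_three : ∀ i j : Fin 3, ∃ k, k ≠ i ∧ k ≠ j := by decide

theorem step (M : Subgroup SL(3, F)) {i j k : Fin 3} (hij : i ≠ j) (hjk : j ≠ k) (hik : i ≠ k) {t u : F}
    (h1 : tv i j t ∈ M) (h2 : tv j k u ∈ M) : tv i k (t * u) ∈ M := by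
  rw [← (stRel_SL third_three).prod i j k hij hjk hik t u]
  exact mul_mem (mul_mem (mul_mem h1 h2) (inv_mem h1)) (inv_mem h2)

variable [Fintype F]

theorem exists_pair_two (h2 : (2 : F) = 0) : ∃ u g : SL(3, F), (IsNilpotent ((u : Matrix (Fin 3) (Fin 3) F) - 1) ∧
    ((u : Matrix (Fin 3) (Fin 3) F) - 1) ^ (3 - 1) ≠ 0) ∧ Subgroup.closure ({u, g * u * g⁻¹} : Set (SL(3, F))) = ⊤ := by
  obtain ⟨ω, -, hgen⟩ := CfsgLib.SL2Pres.exists_generator (F := F)
  set w : F := (ω : F) with hwdef
  have hw : w ≠ 0 := ω.ne_zero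
  set g : SL(3, F) := ⟨!![0, 0, w⁻¹; w, w, 0; 0, 1, 0], by simp [Matrix.det_fin_three, hw]⟩
  set u : SL(3, F) := tv 1 2 1 * tv 0 1 1
  set v : SL(3, F) := tv 1 2 w * tv 2 0 w
  have eu : (u : Matrix (Fin 3) (Fin 3) F) = !![1, 1, 0; 0, 1, 1; 0, 0, 1] := by
    rw [Matrix.SpecialLinearGroup.coe_mul, coe_tv (by decide), coe_tv (by decide)]
    ext i j
    fin_cases i <;> fin_cases j <;> simp [Matrix.mul_apply, Fin.sum_univ_three, Matrix.transvection, Matrix.single]
  have ev : (v : Matrix (Fin 3) (Fin 3) F) = !![1, 0, 0; w * w, 1, w; w, 0, 1] := by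
    rw [Matrix.SpecialLinearGroup.coe_mul, coe_tv (by decide), coe_tv (by decide)]
    ext i j
    fin_cases i <;> fin_cases j <;> simp [Matrix.mul_apply, Fin.sum_univ_three, Matrix.transvection, Matrix.single]
  have hconj : g * u * g⁻¹ = v := by
    refine mul_inv_eq_of_eq_mul ?_
    apply Subtype.ext
    show (g : Matrix (Fin 3) (Fin 3) F) * (u : Matrix (Fin 3) (Fin 3) F) = (v : Matrix (Fin 3) (Fin 3) F) * (g : Matrix (Fin 3) (Fin 3) F)
    rw [eu, ev, show (g : Matrix (Fin 3) (Fin 3) F) = !![0, 0, w⁻¹; w, w, 0; 0, 1, 0] from rfl]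
    ext i j
    fin_cases i <;> fin_cases j <;> simp [Matrix.mul_apply, Fin.sum_univ_three, hw] <;>
      first | rfl | (field_simp; done) | linear_combination (w * w) * h2 | linear_combination -(w * w) * h2
  refine ⟨u, g, ⟨⟨3, ?_⟩, fun h => ?_⟩, ?_⟩
  · rw [eu]
    ext i j; fin_cases i <;> fin_cases j <;> simp [pow_succ, Matrix.mul_apply, Fin.sum_univ_three]
  · rw [eu] at h
    have := congrFun (congrFun h 0) 2
    simp [pow_succ, Matrix.mul_apply, Fin.sum_univ_three] at this
  rw [hconj]
  set M := Subgroup.closure ({u, v} : Set SL(3, F))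
  have hu : u ∈ M := Subgroup.subset_closure (by simp)
  have hv : v ∈ M := Subgroup.subset_closure (by simp)
  have hu2 : tv 0 2 (1 : F) ∈ M := by
    have : u ^ 2 = tv 0 2 1 := by
      apply Subtype.ext
      rw [Matrix.SpecialLinearGroup.coe_pow, eu, coe_tv (by decide)]
      ext i j
      fin_cases i <;> fin_cases j <;> simp [pow_two, Matrix.mul_apply, Fin.sum_univ_three, Matrix.transvection, Matrix.single] <;>
        linear_combination h2
    rw [← this]; exact pow_mem hu 2
  have hv2 : tv 1 0 (w * w) ∈ M := by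
    have : v ^ 2 = tv 1 0 (w * w) := by
      apply Subtype.ext
      rw [Matrix.SpecialLinearGroup.coe_pow, ev, coe_tv (by decide)]
      ext i j
      fin_cases i <;> fin_cases j <;> simp [pow_two, Matrix.mul_apply, Fin.sum_univ_three, Matrix.transvection, Matrix.single] <;>
        first | linear_combination (w * w) * h2 | linear_combination w * h2
    rw [← this]; exact pow_mem hv 2
  have hu' : ∀ s, tv 1 2 s ∈ M → tv 0 2 s ∈ M := fun s hs => by
    have e : u * tv 1 2 s * u⁻¹ * (tv 1 2 s : SL(3, F))⁻¹ = tv 0 2 s := by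
      rw [mul_inv_eq_iff_eq_mul, mul_inv_eq_iff_eq_mul]
      apply Subtype.ext
      show (u : Matrix (Fin 3) (Fin 3) F) * (tv 1 2 s : SL(3, F)).1 = (tv 0 2 s : SL(3, F)).1 * (tv 1 2 s : SL(3, F)).1 * (u : Matrix (Fin 3) (Fin 3) F)
      rw [eu, coe_tv (by decide), coe_tv (by decide)]
      ext i j
      fin_cases i <;> fin_cases j <;> simp [Matrix.mul_apply, Fin.sum_univ_three, Matrix.transvection, Matrix.single] <;>
        (try ring)
    rw [← e]; exact mul_mem (mul_mem (mul_mem hu hs) (inv_mem hu)) (inv_mem hs)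
  have h12of : ∀ s, tv 0 2 s ∈ M → tv 1 2 (w * w * s) ∈ M := fun s hs =>
    step M (by decide) (by decide) (by decide) hv2 hs
  have hpow : ∀ n : ℕ, tv 0 2 ((w * w) ^ n) ∈ M := by
    intro n
    induction n with
    | zero => simpa using hu2
    | succ n ih => rw [pow_succ']; exact hu' _ (h12of _ ih)
  have h02 : ∀ t, tv 0 2 t ∈ M := by
    intro t
    by_cases ht : t = 0
    · rw [ht, SLnPres.tv_zero]; exact one_mem _
    have : CharP F 2 := CharTwo.of_one_ne_zero_of_two_eq_zero one_ne_zero h2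
    obtain ⟨a, rfl⟩ := FiniteField.isSquare_of_char_two (ringChar.eq F 2) t
    obtain ⟨n, rfl⟩ := hgen a (fun e => ht (by rw [e, mul_zero]))
    rw [← mul_pow]; exact hpow n
  have h12 : ∀ t, tv 1 2 t ∈ M := fun t => by
    have := h12of _ (h02 (t / (w * w)))
    rwa [mul_div_cancel₀ _ (mul_ne_zero hw hw)] at this
  have h01 : tv 0 1 (1 : F) ∈ M := by
    have := mul_mem (inv_mem (h12 1)) hu
    rwa [inv_mul_cancel_left] at this
  have h20w : tv 2 0 w ∈ M := by
    have := mul_mem (inv_mem (h12 w)) hv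
    rwa [inv_mul_cancel_left] at this
  have h10 : ∀ t, tv 1 0 t ∈ M := fun t => by
    have := step M (by decide) (by decide) (by decide) (h12 (t / w)) h20w
    rwa [div_mul_cancel₀ _ hw] at this
  have h21w : tv 2 1 w ∈ M := by
    simpa using step M (i := 2) (j := 0) (k := 1) (by decide) (by decide) (by decide) h20w h01
  have h20 : ∀ t, tv 2 0 t ∈ M := fun t => by
    have := step M (by decide) (by decide) (by decide) h21w (h10 (t / w))
    rwa [mul_div_cancel₀ _ hw] at this
  have h21 : ∀ t, tv 2 1 t ∈ M := fun t => by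
    simpa using step M (i := 2) (j := 0) (k := 1) (by decide) (by decide) (by decide) (h20 t) h01
  have h01' : ∀ t, tv 0 1 t ∈ M := fun t => by
    simpa using step M (i := 0) (j := 2) (k := 1) (by decide) (by decide) (by decide) (h02 t) (h21 1)
  refine CfsgLib.Linear.sl_eq_top_of_transvections fun i j hij t => ?_
  rw [show Matrix.SpecialLinearGroup.transvection hij t = tv i j t by rw [SLnPres.tv, dif_neg hij]]
  fin_cases i <;> fin_cases j <;> first | exact absurd rfl hij | exact h01' t | exact h02 t | exact h10 t | exact h12 t | exact h20 t | exact h21 t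

end CfsgLib.RegPair
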